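import Cfsg.Agent.Lib.Fus.Goldschmidt.Bender
import Cfsg.Agent.Lib.Fus.Goldschmidt.FourModels2
import Cfsg.Agent.Lib.Fus.ClosedProduct.Model
import Cfsg.Agent.Lib.Grp.CoprimeWord.Layers
import Cfsg.Agent.Lib.Invol.CentRank.Cyclic.Torus
import Cfsg.Agent.Lib.Fus.SylowCentAut
import Cfsg.Agent.Lib.Invol.GW.Consumers.CentralFour
import Cfsg.Agent.S0205

/-!
# Automorphisms of a Bender group that fix the involutions of a Sylow 2-subgroup form a solvable group
-/

set_option autoImplicit false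
set_option linter.style.haveILetI false
set_option linter.unusedSectionVars false

namespace Cfsg.Agent.Transfer.ClosedCore

open Subgroup
open scoped commutatorElement

universe u

/-- The automorphisms fixing every element of order at most two. -/
def fixInv (P : Type*) [Group P] : Subgroup (MulAut P) where
  carrier := {f | ∀ x, x * x = 1 → f x = x}
  one_mem' := fun _ _ => rfl
  mul_mem' := fun {f g} hf hg x hx => by rw [MulAut.mul_apply, hg x hx, hf x hx]
  inv_mem' := fun {f} hf x hx => by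
    rw [MulAut.inv_def, MulEquiv.symm_apply_eq]
    exact (hf x hx).symm

theorem isSolvable_of_dser {G : Type*} [Group G] (C : Subgroup G) (n : ℕ) (h : Grp.CW.dser C n = ⊥) :
    Group.IsSolvable ↥C := by
  rw [Grp.CW.dser_eq_map, Subgroup.map_eq_bot_iff_of_injective _ C.subtype_injective] at h
  exact (Group.isSolvable_def _).2 ⟨n, h⟩

/-- The criterion: a second commutator moves each element only within the central involutions. -/
theorem isSolvable_fixInv {P : Type*} [Group P] (hcen : ∀ w x : P, w * w = 1 → x * w = w * x)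
    (D : Subgroup (MulAut P)) (hD : ∀ f ∈ fixInv P, ∀ g ∈ fixInv P, ⁅f, g⁆ ∈ D)
    (hE : ∀ f ∈ D ⊓ fixInv P, ∀ g ∈ D ⊓ fixInv P, ∀ x, (x⁻¹ * ⁅f, g⁆ x) * (x⁻¹ * ⁅f, g⁆ x) = 1) :
    Group.IsSolvable ↥(fixInv P) := by
  let E : Subgroup (MulAut P) :=
    { carrier := {f | f ∈ fixInv P ∧ ∀ x, (x⁻¹ * f x) * (x⁻¹ * f x) = 1}
      one_mem' := ⟨one_mem _, fun x => by simp⟩
      mul_mem' := fun {f g} hf hg => ⟨mul_mem hf.1 hg.1, fun x => by
        set w := x⁻¹ * g x with hw
        have hww : w * w = 1 := hg.2 x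
        have e : x⁻¹ * (f * g) x = x⁻¹ * f x * w := by
          rw [MulAut.mul_apply, show g x = x * w by rw [hw]; group, map_mul, hf.1 w hww]
          group
        rw [e, show x⁻¹ * f x * w * (x⁻¹ * f x * w) = x⁻¹ * f x * (w * (x⁻¹ * f x)) * w by group,
          ← hcen w (x⁻¹ * f x) hww, show x⁻¹ * f x * (x⁻¹ * f x * w) * w = x⁻¹ * f x * (x⁻¹ * f x) * (w * w) by group,
          hf.2 x, hww, one_mul]⟩
      inv_mem' := fun {f} hf => ⟨inv_mem hf.1, fun x => by
        set w := x⁻¹ * f⁻¹ x with hw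
        have h := hf.2 (f⁻¹ x)
        rw [MulAut.apply_inv_self] at h
        rw [show (f⁻¹ x)⁻¹ * x = w⁻¹ by rw [hw]; group, ← mul_inv_rev, inv_eq_one] at h
        exact h⟩ }
  have hDE : ⁅D ⊓ fixInv P, D ⊓ fixInv P⁆ ≤ E := commutator_le.2 fun f hf g hg => ⟨by
    rw [commutatorElement_def]
    exact mul_mem (mul_mem (mul_mem hf.2 hg.2) (inv_mem hf.2)) (inv_mem hg.2), hE f hf g hg⟩
  have hEE : ⁅E, E⁆ ≤ ⊥ := by
    rw [le_bot_iff, commutator_eq_bot_iff_le_centralizer]
    refine fun f hf => mem_centralizer_iff.2 fun g hg => MulEquiv.ext fun x => ?_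
    obtain ⟨w, hw⟩ : ∃ w, w = x⁻¹ * f x := ⟨_, rfl⟩
    obtain ⟨v, hv⟩ : ∃ v, v = x⁻¹ * g x := ⟨_, rfl⟩
    have hww : w * w = 1 := hw ▸ hf.2 x
    have hvv : v * v = 1 := hv ▸ hg.2 x
    have ef : f x = x * w := by rw [hw]; group
    have eg : g x = x * v := by rw [hv]; group
    rw [MulAut.mul_apply, MulAut.mul_apply, ef, eg, map_mul, map_mul, hg.1 w hww, hf.1 v hvv, ef, eg,
      mul_assoc, mul_assoc, hcen w v hww]
  refine isSolvable_of_dser _ 3 ?_
  rw [← le_bot_iff]
  refine (commutator_mono ?_ ?_).trans hEE <;>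
    exact (commutator_mono (commutator_le.2 fun f hf g hg => mem_inf.2 ⟨hD f hf g hg, by
      rw [commutatorElement_def]
      exact mul_mem (mul_mem (mul_mem hf hg) (inv_mem hf)) (inv_mem hg)⟩) (commutator_le.2 fun f hf g hg =>
      mem_inf.2 ⟨hD f hf g hg, by
        rw [commutatorElement_def]
        exact mul_mem (mul_mem (mul_mem hf hg) (inv_mem hf)) (inv_mem hg)⟩)).trans hDE

theorem isSolvable_fixInv_congr {P Q : Type*} [Group P] [Group Q] (e : P ≃* Q)
    (h : Group.IsSolvable ↥(fixInv P)) : Group.IsSolvable ↥(fixInv Q) := by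
  haveI := h
  let f : ↥(fixInv Q) →* ↥(fixInv P) :=
    ((MulAut.congr e.symm).toMonoidHom.comp (fixInv Q).subtype).codRestrict (fixInv P) fun a x hx => by
      show e.symm ((a : MulAut Q) (e x)) = x
      rw [a.2 (e x) (by rw [← map_mul, hx, map_one]), e.symm_apply_apply]
  exact Group.isSolvable_of_isSolvable_injective (f := f) fun a b hab =>
    Subtype.ext ((MulAut.congr e.symm).injective (congrArg Subtype.val hab))

section Linear

open Matrix Cfsg.Agent.Grp.SL2

theorem fixInv_sl {F : Type} [Field F] [Fintype F] [CharP F 2] (h4 : 4 ≤ Fintype.card F) :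
    ∃ P : Sylow 2 (Matrix.SpecialLinearGroup (Fin 2) F),
      Group.IsSolvable ↥(fixInv ↥(P : Subgroup (Matrix.SpecialLinearGroup (Fin 2) F))) := by
  classical
  haveI : Fact (Nat.Prime 2) := ⟨Nat.prime_two⟩
  obtain ⟨W, hW⟩ : ∃ W : Subgroup (Matrix.SpecialLinearGroup (Fin 2) F), ∀ g, g ∈ W ↔ ∃ t : F, g = up t :=
    ⟨{ carrier := {g | ∃ t : F, g = up t}
       one_mem' := ⟨0, up_zero.symm⟩
       mul_mem' := by rintro _ _ ⟨s, rfl⟩ ⟨t, rfl⟩; exact ⟨s + t, up_mul s t⟩
       inv_mem' := by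
        rintro _ ⟨s, rfl⟩
        exact ⟨-s, inv_eq_of_mul_eq_one_right (by rw [up_mul, add_neg_cancel, up_zero])⟩ },
      fun _ => Iff.rfl⟩
  have hcard : Nat.card ↥W = Fintype.card F := by
    rw [← Nat.card_eq_fintype_card (α := F)]
    refine (Nat.card_eq_of_bijective (fun t : F => (⟨up t, (hW _).2 ⟨t, rfl⟩⟩ : ↥W))
      ⟨fun s t h => ?_, fun g => ?_⟩).symm
    · simpa [up] using congrFun (congrFun (congrArg Subtype.val (congrArg Subtype.val h)) 0) 1
    · obtain ⟨t, ht⟩ := (hW g).1 g.2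
      exact ⟨t, Subtype.ext ht.symm⟩
  obtain ⟨n, -, hn⟩ := FiniteField.card F 2
  have hidx : ¬ 2 ∣ W.index := by
    have h1 := W.card_mul_index
    rw [hcard, Lie.SympWreath.natCard_SL2] at h1
    rw [Nat.eq_of_mul_eq_mul_left Fintype.card_pos h1]
    have h2 : Even (Fintype.card F ^ 2) := by
      rw [hn, ← pow_mul]; exact Nat.even_pow.2 ⟨even_two, by positivity⟩
    exact fun h => (Nat.not_even_iff_odd.2 (Nat.Even.sub_odd (Nat.one_le_pow _ _ Fintype.card_pos) h2
      odd_one)) (even_iff_two_dvd.2 h)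
  refine ⟨(IsPGroup.of_card (hcard.trans hn) : IsPGroup 2 W).toSylow hidx, ?_⟩
  show Group.IsSolvable ↥(fixInv ↥W)
  have hel : ∀ x : ↥W, x * x = 1 := fun x => by
    obtain ⟨t, ht⟩ := (hW x).1 x.2
    refine Subtype.ext ?_
    show (x : Matrix.SpecialLinearGroup (Fin 2) F) * x = 1
    rw [ht, up_mul, CharTwo.add_self_eq_zero, up_zero]
  have hone : fixInv ↥W = ⊥ := (eq_bot_iff_forall _).2 fun f hf => MulEquiv.ext fun x => hf x (hel x)
  rw [hone]
  infer_instance

end Linear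

section Unitary

open Matrix Cfsg Cfsg.Agent.Classical Cfsg.Agent.Classical.PSUAut Cfsg.Agent.Fus.UnitN Cfsg.Agent.Lie.SUGen
  Cfsg.Agent.Lie.SU3Pres Cfsg.Agent.Transfer.U3Min

/-- An additive map preserving the norm of `F` over its subfield of order `q` is semilinear. -/
theorem norm_preserving {F : Type} [Field F] [Fintype F] [CharP F 2] {q : ℕ} (hF : Fintype.card F = q ^ 2)
    (g : F →+ F) (hg : ∀ x, g x * qFrob hF (g x) = x * qFrob hF x) :
    ∃ a : F, a ≠ 0 ∧ ((∀ x, g x = a * x) ∨ ∀ x, g x = a * qFrob hF x) := by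
  set a := g 1 with ha
  have ha0 : a ≠ 0 := fun e => by simpa [← ha, e] using hg 1
  have hca : qFrob hF a ≠ 0 := (map_ne_zero (qFrob hF)).2 ha0
  refine ⟨a, ha0, ?_⟩
  have key : ∀ x, g x = a * x ∨ g x = a * qFrob hF x := by
    intro x
    have h1 := hg x
    have h2 := hg (x + 1)
    have h3 := hg 1
    rw [← ha, map_one, one_mul] at h3
    rw [map_add, ← ha, map_add (qFrob hF), map_add (qFrob hF), map_one] at h2
    have h4 : g x * qFrob hF a + a * qFrob hF (g x) = x + qFrob hF x := by linear_combination h2 - h1 - h3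
    have h5 : (g x - a * x) * (g x - a * qFrob hF x) = 0 := by
      linear_combination (a * g x) * h4 - a ^ 2 * h1 - g x ^ 2 * h3
    rcases mul_eq_zero.1 h5 with h | h
    · exact Or.inl (sub_eq_zero.1 h)
    · exact Or.inr (sub_eq_zero.1 h)
  by_contra hno
  simp only [not_or, not_forall] at hno
  obtain ⟨⟨x, hx⟩, y, hy⟩ := hno
  have hx' := (key x).resolve_left hx
  have hy' := (key y).resolve_right hy
  rcases key (x + y) with h | h <;> rw [map_add, hx', hy'] at h
  · exact hx (hx'.trans (by linear_combination h))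
  · rw [map_add] at h
    exact hy (hy'.trans (by linear_combination h))

theorem fixInv_psu {F : Type} [Field F] [Fintype F] {q : ℕ} (hF : Fintype.card F = q ^ 2) (heven : Even q)
    (h4 : 4 ≤ q) : ∃ P : Sylow 2 (PSU 3 F q), Group.IsSolvable ↥(fixInv ↥(P : Subgroup (PSU 3 F q))) := by
  classical
  haveI : Fact (Nat.Prime 2) := ⟨Nat.prime_two⟩
  obtain ⟨p, hc⟩ := CharP.exists F
  haveI : Fact p.Prime := ⟨CharP.char_is_prime F p⟩
  obtain rfl : p = 2 := Dickson.p_eq_two p (by rw [hF]; exact heven.pow_of_ne_zero two_ne_zero)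
  have h2F : (2 : F) = 0 := CharTwo.two_eq_zero
  obtain ⟨e, n, f, B⟩ := exists_frame hF
  obtain ⟨k, -, hk⟩ := FiniteField.card F 2
  obtain ⟨j, -, hj⟩ := (Nat.dvd_prime_pow Nat.prime_two).1
    (show q ∣ 2 ^ (k : ℕ) from hk ▸ hF ▸ dvd_pow_self q two_ne_zero)
  obtain ⟨π, hπdef⟩ : ∃ π : SU 3 F q →* PSU 3 F q, π = suToPSU 3 F q := ⟨_, rfl⟩
  have hπs : Function.Surjective π := hπdef ▸ pi_surjective
  have hUker : ∀ u ∈ Uni hF B, π u = 1 → u = 1 := by
    intro u hu h1
    obtain ⟨l, hl⟩ := (pi_eq_one_iff hF).1 (hπdef ▸ h1)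
    have h2 : suVal u *ᵥ e = l • e := by rw [hl, Matrix.smul_mulVec, Matrix.one_mulVec]
    rw [(mem_Uni_iff hF B).1 hu] at h2
    have hl1 : l = 1 := (smul_left_injective F B.P.ne_zero (by simpa using h2)).symm
    refine suVal_ext ?_
    rw [hl, hl1, one_smul, suVal_one']
  have hU : Nat.card (Uni hF B) = q ^ 3 := by
    have h := card_inf_Uni hF B ⊤
    rw [top_inf_eq] at h
    have hb := card_inf_Bor hF B ⊤
    rw [top_inf_eq, card_Bor hF B, top_inf_eq] at hb
    have ht : tSet B ⊤ = ⊤ := eq_top_iff.2 fun l _ =>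
      (mem_tSet hF B).2 ⟨Tm hF B (l : F), Subgroup.mem_top _, T_e hF B l.ne_zero⟩
    rw [ht, Subgroup.card_top, Nat.card_units, Nat.card_eq_fintype_card (α := F), hF] at hb
    exact (Nat.eq_of_mul_eq_mul_right (Nat.sub_pos_of_lt (Nat.one_lt_pow two_ne_zero (by omega))) hb).symm
  have hUp : IsPGroup 2 ↥((Uni hF B).map π) :=
    IsPGroup.map (IsPGroup.of_card (n := j * 3) (by rw [hU, hj, ← pow_mul])) _
  have hUidx : ¬ 2 ∣ ((Uni hF B).map π).index := by
    intro h2
    have h3 := h2.trans (Subgroup.index_map_dvd (Uni hF B) hπs)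
    rw [← Subgroup.relIndex_mul_index (Uni_le_Bor hF B), index_Bor hF B] at h3
    have hr : (Uni hF B).relIndex (Bor B) * q ^ 3 = (q ^ 2 - 1) * q ^ 3 := by
      have := Subgroup.card_mul_index ((Uni hF B).subgroupOf (Bor B))
      rw [Nat.card_congr (Subgroup.subgroupOfEquivOfLe (Uni_le_Bor hF B)).toEquiv, hU, card_Bor hF B] at this
      rw [Subgroup.relIndex, mul_comm, this, mul_comm]
    rw [Nat.eq_of_mul_eq_mul_right (pow_pos (show 0 < q by omega) 3) hr] at h3
    have hq3 : Odd (q ^ 3 + 1) := Even.add_one (heven.pow_of_ne_zero (by norm_num))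
    have hq2 : Odd (q ^ 2 - 1) := Nat.Even.sub_odd (Nat.one_le_pow _ _ (by omega))
      (heven.pow_of_ne_zero (by norm_num)) odd_one
    exact (Nat.not_even_iff_odd.2 (hq2.mul hq3)) (even_iff_two_dvd.2 h3)
  refine ⟨hUp.toSylow hUidx, ?_⟩
  show Group.IsSolvable ↥(fixInv ↥((Uni hF B).map π))
  set P := (Uni hF B).map π with hP
  have hinj : ∀ {α b α' b' : F}, OK hF α b → OK hF α' b' → π (Um hF B α b) = π (Um hF B α' b') →
      α = α' ∧ b = b' := by
    intro α b α' b' h1 h2 he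
    have h := hUker _ (Subgroup.mul_mem _ (Subgroup.inv_mem _ ⟨α, b, h1, rfl⟩) ⟨α', b', h2, rfl⟩)
      (by rw [map_mul, map_inv, he, inv_mul_cancel])
    exact U_inj hF B h1 h2 (inv_mul_eq_one.1 h)
  let el : ∀ α b : F, OK hF α b → ↥P := fun α b hb => ⟨π (Um hF B α b), ⟨_, ⟨α, b, hb, rfl⟩, rfl⟩⟩
  have hco : ∀ x : ↥P, ∃ α b : F, ∃ hb : OK hF α b, x = el α b hb := by
    rintro ⟨_, _, ⟨α, b, hb, rfl⟩, rfl⟩
    exact ⟨α, b, hb, rfl⟩
  choose c d hd hx using hco
  have hc_el : ∀ α b (hb : OK hF α b), c (el α b hb) = α := fun α b hb =>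
    ((hinj hb (hd (el α b hb)) (congrArg Subtype.val (hx (el α b hb)))).1).symm
  have hmul : ∀ α b α' b' (hb : OK hF α b) (hb' : OK hF α' b'),
      el α b hb * el α' b' hb' = el _ _ (hb.mul hF hb') := fun α b α' b' hb hb' =>
    Subtype.ext (by
      show π (Um hF B α b) * π (Um hF B α' b') = _
      rw [← map_mul, U_mul hF B hb hb'])
  have hcm : ∀ x y : ↥P, c (x * y) = c x + c y := fun x y =>
    (congrArg c ((congrArg₂ (· * ·) (hx x) (hx y)).trans (hmul _ _ _ _ (hd x) (hd y)))).trans (hc_el _ _ ((hd x).mul hF (hd y)))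
  have hsq : ∀ α b (hb : OK hF α b), ∃ b' hb', el α b hb * el α b hb = el 0 b' hb' ∧
      b' = α * qFrob hF α := by
    intro α b hb
    refine ⟨_, ?_, ?_, rfl⟩
    · refine OK.skew hF ?_
      rw [map_mul, cj_cj hF, mul_comm (qFrob hF α)]
      exact CharTwo.add_self_eq_zero _
    · rw [hmul _ _ _ _ hb hb]
      refine Subtype.ext (congrArg π ?_)
      rw [CharTwo.add_self_eq_zero]
      congr 1
      linear_combination b * h2F - α * qFrob hF α * h2F
  have hW : ∀ x : ↥P, x * x = 1 ↔ c x = 0 := by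
    intro x
    obtain ⟨b', hb', e', hbb⟩ := hsq (c x) (d x) (hd x)
    rw [← hx x] at e'
    constructor
    · intro h
      rw [h] at e'
      have h0 := (hinj (OK.zero hF) hb' (by
        rw [U_zero hF B, map_one]; exact congrArg Subtype.val e')).2
      rcases mul_eq_zero.1 (hbb.symm.trans h0.symm) with h3 | h3
      · exact h3
      · exact (map_eq_zero _).1 h3
    · intro h
      rw [h, zero_mul] at hbb
      rw [e']
      exact Subtype.ext (by
        show π (Um hF B 0 b') = 1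
        rw [hbb, U_zero hF B, map_one])
  have hcen : ∀ w x : ↥P, w * w = 1 → x * w = w * x := by
    intro w x hw
    rw [hx w, hx x]
    have h0 := (hW w).1 hw
    refine Subtype.ext ?_
    show π (Um hF B _ _) * π (Um hF B _ _) = π (Um hF B _ _) * π (Um hF B _ _)
    rw [← map_mul, ← map_mul, U_mul hF B (hd x) (hd w), U_mul hF B (hd w) (hd x)]
    simp [h0, add_comm]
  -- each automorphism is semilinear on the coordinate
  have htyp : ∀ g ∈ fixInv ↥P, ∃ a : F, a ≠ 0 ∧
      ((∀ x, c (g x) = a * c x) ∨ ∀ x, c (g x) = a * qFrob hF (c x)) := by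
    intro g hg
    have hcW : ∀ x y : ↥P, c x = c y → c (g x) = c (g y) := by
      intro x y hxy
      have h0 : c (x⁻¹ * y) = 0 := by
        have := hcm x (x⁻¹ * y)
        rw [mul_inv_cancel_left, ← hxy] at this
        linear_combination -this
      have h1 := hcm (g x) (x⁻¹ * y)
      rw [show g y = g x * (x⁻¹ * y) by
        conv_lhs => rw [show y = x * (x⁻¹ * y) by group, map_mul, hg _ ((hW _).2 h0)], h1, h0, add_zero]
    have hex : ∀ α : F, ∃ b, OK hF α b := fun α => by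
      obtain ⟨b, hb'⟩ := exists_trace_eq hF (a := -(α * qFrob hF α))
        (by rw [map_neg, map_mul, cj_cj hF, mul_comm])
      exact ⟨b, by unfold OK; linear_combination hb'⟩
    choose β hβ using hex
    let φ : F → F := fun α => c (g (el α (β α) (hβ α)))
    have hφ : ∀ x, c (g x) = φ (c x) := fun x => hcW _ _ (hc_el _ _ (hβ (c x))).symm
    let φ' : F →+ F := AddMonoidHom.mk' φ fun α α' => by
      show φ (α + α') = φ α + φ α'
      rw [show φ α + φ α' = c (g (el α (β α) (hβ α) * el α' (β α') (hβ α'))) by rw [map_mul, hcm], hφ, hcm,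
        hc_el α (β α) (hβ α), hc_el α' (β α') (hβ α')]
    obtain ⟨a, ha, hor⟩ := norm_preserving hF φ' fun α => by
      show φ α * qFrob hF (φ α) = α * qFrob hF α
      set x := el α (β α) (hβ α) with hxdef
      obtain ⟨b1, hb1, e1, hb1'⟩ := hsq α (β α) (hβ α)
      obtain ⟨b2, hb2, e2, hb2'⟩ := hsq (c (g x)) (d (g x)) (hd (g x))
      rw [← hx (g x), ← map_mul, e1, hg _ ((hW _).2 (hc_el _ _ hb1))] at e2
      rw [← hb1', (hinj hb1 hb2 (congrArg Subtype.val e2)).2, hb2']
    exact ⟨a, ha, hor.imp (fun h x => (hφ x).trans (h _)) fun h x => (hφ x).trans (h _)⟩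
  let D : Subgroup (MulAut ↥P) :=
    { carrier := {g | ∃ a : F, a ≠ 0 ∧ ∀ x, c (g x) = a * c x}
      one_mem' := ⟨1, one_ne_zero, fun x => (one_mul _).symm⟩
      mul_mem' := fun {g g'} ⟨a, ha, h⟩ ⟨a', ha', h'⟩ =>
        ⟨a * a', mul_ne_zero ha ha', fun x => by rw [MulAut.mul_apply, h, h', mul_assoc]⟩
      inv_mem' := fun {g} ⟨a, ha, h⟩ => ⟨a⁻¹, inv_ne_zero ha, fun x => by
        have := h (g⁻¹ x)
        rw [MulAut.apply_inv_self] at this
        rw [this, inv_mul_cancel_left₀ ha]⟩ }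
  refine isSolvable_fixInv hcen D (fun g hg g' hg' => ?_) fun g hg g' hg' x => ?_
  · obtain ⟨a, ha, h⟩ := htyp g hg
    obtain ⟨a', ha', h'⟩ := htyp g' hg'
    have i1 : ∀ x, c (g (g⁻¹ x)) = c x := fun x => by rw [MulAut.apply_inv_self]
    have i2 : ∀ x, c (g' (g'⁻¹ x)) = c x := fun x => by rw [MulAut.apply_inv_self]
    show ∃ b : F, b ≠ 0 ∧ ∀ x, c (⁅g, g'⁆ x) = b * c x
    have hn : ∀ {z : F}, z ≠ 0 → qFrob hF z ≠ 0 := fun hz => (map_ne_zero (qFrob hF)).2 hz
    simp only [commutatorElement_def, MulAut.mul_apply]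
    rcases h with h | h <;> rcases h' with h' | h'
    · refine ⟨1, one_ne_zero, fun x => ?_⟩
      have e1 := i1 (g'⁻¹ x); rw [h] at e1
      have e2 := i2 x; rw [h'] at e2
      rw [h, h']; linear_combination a' * e1 + e2
    · refine ⟨a / qFrob hF a, div_ne_zero ha (hn ha), fun x => ?_⟩
      have e1 := congrArg (qFrob hF) (i1 (g'⁻¹ x)); rw [h, map_mul] at e1
      have e2 := i2 x; rw [h'] at e2
      rw [h, h', div_mul_eq_mul_div, eq_div_iff (hn ha)]; linear_combination (a * a') * e1 + a * e2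
    · refine ⟨qFrob hF a' / a', div_ne_zero (hn ha') ha', fun x => ?_⟩
      have e1 := i1 (g'⁻¹ x); rw [h] at e1
      have e2 := i2 x; rw [h'] at e2
      rw [h, h', map_mul, div_mul_eq_mul_div, eq_div_iff ha']
      linear_combination (a' * qFrob hF a') * e1 + qFrob hF a' * e2
    · refine ⟨a * qFrob hF a' / (qFrob hF a * a'), div_ne_zero (mul_ne_zero ha (hn ha')) (mul_ne_zero (hn ha) ha'),
        fun x => ?_⟩
      have e1 := congrArg (qFrob hF) (i1 (g'⁻¹ x)); rw [h, map_mul, cj_cj hF] at e1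
      have e2 := i2 x; rw [h'] at e2
      rw [h, h', map_mul, cj_cj hF, div_mul_eq_mul_div, eq_div_iff (mul_ne_zero (hn ha) ha')]
      linear_combination (a * qFrob hF a' * a') * e1 + a * qFrob hF a' * e2
  · obtain ⟨⟨a, ha, h⟩, -⟩ := hg
    obtain ⟨⟨a', ha', h'⟩, -⟩ := hg'
    refine (hW _).2 ?_
    have e1 := congrArg c (MulAut.apply_inv_self _ g (g'⁻¹ x))
    rw [h] at e1
    have e2 := congrArg c (MulAut.apply_inv_self _ g' x)
    rw [h'] at e2
    have e3 : c (⁅g, g'⁆ x) = c x := by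
      rw [commutatorElement_def]
      simp only [MulAut.mul_apply]
      rw [h, h']
      linear_combination a' * e1 + e2
    have e4 := hcm x (x⁻¹ * ⁅g, g'⁆ x)
    rw [mul_inv_cancel_left, e3] at e4
    linear_combination -e4

end Unitary

open Cfsg.Agent.Suz in
theorem fixInv_sz {F : Type} [Field F] [Fintype F] {m : ℕ} (hS : Suz.SzField F m) :
    Group.IsSolvable ↥(fixInv ↥(Suz.unip hS)) := by
  haveI := Suz.charP hS
  have hW : ∀ x : ↥(Suz.unip hS), x * x = 1 → ∃ b, (x : ↥(Cfsg.Sz F m)) = Suz.uS hS 0 b := by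
    intro x hx
    obtain ⟨a, b, hab⟩ := (Suz.mem_unip hS).1 x.2
    have h1 : Suz.uS hS a b ^ 2 = 1 := by rw [← hab, pow_two, ← Subgroup.coe_mul, hx, Subgroup.coe_one]
    rw [Suz.uS_sq, ← Suz.uS_zero hS] at h1
    rcases mul_eq_zero.1 (Suz.uS_injective hS h1).2 with h | h
    · exact ⟨b, by rw [hab, Suz.th_eq_zero.1 h]⟩
    · exact ⟨b, by rw [hab, h]⟩
  have hcen : ∀ w x : ↥(Suz.unip hS), w * w = 1 → x * w = w * x := by
    intro w x hw
    obtain ⟨b, hb⟩ := hW w hw
    obtain ⟨c, e, hce⟩ := (Suz.mem_unip hS).1 x.2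
    refine Subtype.ext ?_
    show (x : ↥(Cfsg.Sz F m)) * w = w * x
    rw [hb, hce, Suz.uS_mul, Suz.uS_mul, Suz.th_zero]
    simp [add_comm]
  refine isSolvable_fixInv hcen ⊤ (fun _ _ _ _ => mem_top _) fun f hf g hg x => ?_
  have hfg : ⁅f, g⁆ ∈ fixInv ↥(Suz.unip hS) := by
    rw [commutatorElement_def]; exact mul_mem (mul_mem (mul_mem hf.2 hg.2) (inv_mem hf.2)) (inv_mem hg.2)
  have hsq4 : (x * x) * (x * x) = 1 := by
    obtain ⟨a, b, hab⟩ := (Suz.mem_unip hS).1 x.2
    refine Subtype.ext ?_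
    show ((x : ↥(Cfsg.Sz F m)) * x) * ((x : ↥(Cfsg.Sz F m)) * x) = 1
    rw [hab, ← pow_two, ← pow_two, Suz.uS_sq, Suz.uS_sq, Suz.th_zero, zero_mul, Suz.uS_zero]
  set y := ⁅f, g⁆ x with hy
  have hyy : y * y = x * x := by rw [hy, ← map_mul, hfg _ hsq4]
  obtain ⟨a, b, hab⟩ := (Suz.mem_unip hS).1 x.2
  obtain ⟨a', b', hab'⟩ := (Suz.mem_unip hS).1 y.2
  have h1 : Suz.uS hS a' b' ^ 2 = Suz.uS hS a b ^ 2 := by
    rw [← hab, ← hab', pow_two, pow_two, ← Subgroup.coe_mul, hyy, Subgroup.coe_mul]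
  rw [Suz.uS_sq, Suz.uS_sq] at h1
  have h2 := (Suz.uS_injective hS h1).2
  have haa : a' = a := by
    by_cases ha : a = 0
    · subst ha
      rw [Suz.th_zero, zero_mul] at h2
      exact (mul_eq_zero.1 h2).elim Suz.th_eq_zero.1 id
    set r := a' / a with hr
    have ha' : a' = r * a := (div_mul_cancel₀ _ ha).symm
    rw [ha', Suz.th_mul] at h2
    have h3 : Suz.th m r * r = 1 := by
      refine mul_right_cancel₀ (b := Suz.th m a * a) (mul_ne_zero (Suz.th_ne_zero ha) ha) ?_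
      linear_combination h2
    have h4 := congrArg (Suz.th m) h3
    rw [Suz.th_mul, Suz.th_th hS, Suz.th_one] at h4
    have h5 : r = 1 := by linear_combination h4 - r * h3
    rw [ha', h5, one_mul]
  have hz : (x⁻¹ * y : ↥(Suz.unip hS)) * (x⁻¹ * y) = 1 := by
    refine Subtype.ext ?_
    show ((x : ↥(Cfsg.Sz F m))⁻¹ * y) * ((x : ↥(Cfsg.Sz F m))⁻¹ * y) = 1
    rw [hab, hab', haa, Suz.uS_inv, Suz.uS_mul, CharTwo.add_self_eq_zero, Suz.uS_mul, Suz.th_zero]
    simp [CharTwo.add_self_eq_zero, Suz.uS_zero]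
  exact hz

/-- The automorphisms of a Sylow 2-subgroup of a Bender group fixing its involutions. -/
theorem fixInv_solvable {L : Type u} [Group L] [Finite L] (h : Invol.CentInt.IsBenderGrp L) (T : Sylow 2 L) :
    Group.IsSolvable ↥(fixInv ↥(T : Subgroup L)) := by
  classical
  haveI : Fact (Nat.Prime 2) := ⟨Nat.prime_two⟩
  rcases h with ⟨F, i, j, hc, h4, ⟨e⟩⟩ | ⟨F, i, j, q, hq, h4, hF, ⟨e⟩⟩ | ⟨F, i, j, m, hm, hF, ⟨e⟩⟩
  · haveI := hc
    obtain ⟨P, hd⟩ := fixInv_sl (F := F) h4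
    obtain ⟨ψ, hψ⟩ := Invol.CentRank.exists_iso_sylow e.symm P T
    exact isSolvable_fixInv_congr (((P : Subgroup _).equivMapOfInjective ψ.toMonoidHom ψ.injective).trans (MulEquiv.subgroupCongr hψ)) hd
  · obtain ⟨P, hd⟩ := fixInv_psu hF hq h4
    obtain ⟨ψ, hψ⟩ := Invol.CentRank.exists_iso_sylow e.symm P T
    exact isSolvable_fixInv_congr (((P : Subgroup _).equivMapOfInjective ψ.toMonoidHom ψ.injective).trans (MulEquiv.subgroupCongr hψ)) hd
  · have hS : Suz.SzField F m := ⟨hm, hF⟩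
    obtain ⟨ψ, hψ⟩ := Invol.CentRank.exists_iso_sylow ((Suz.szEquiv hS).trans e.symm)
      ((Suz.isPGroup_unip hS).toSylow (Suz.not_two_dvd_index_unip hS)) T
    exact isSolvable_fixInv_congr ((Subgroup.equivMapOfInjective _ ψ.toMonoidHom ψ.injective).trans (MulEquiv.subgroupCongr hψ)) (fixInv_sz hS)

/-- A perfect solvable subgroup is trivial. -/
theorem eq_bot_of_perfect {G : Type*} [Group G] (H : Subgroup G) (hp : ⁅H, H⁆ = H)
    (hs : Group.IsSolvable ↥H) : H = ⊥ := by
  obtain ⟨n, hn⟩ := (Group.isSolvable_def _).1 hs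
  have hd : ∀ k, Grp.CW.dser H k = H := by
    intro k
    induction k with
    | zero => rfl
    | succ k ih => show ⁅Grp.CW.dser H k, Grp.CW.dser H k⁆ = H; rw [ih, hp]
  rw [← hd n, Grp.CW.dser_eq_map, hn, Subgroup.map_bot]

/-- A perfect group of automorphisms fixing the involutions of a Sylow 2-subgroup is trivial, for the simple
groups of Goldschmidt's theorem. -/
theorem perfect_aut_eq_bot {L : Type u} [Group L] [Finite L] [IsSimpleGroup L] (hL : ¬ IsMulCommutative L)
    (P : Sylow 2 L) {W : Subgroup L} (hne : W ≠ ⊥) (hel : Cfsg.IsElementaryAbelian 2 W) (hWP : W ≤ P)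
    (hW : ∀ p ∈ (P : Subgroup L), p * p = 1 → p ∈ W)
    (hcase : (P : Subgroup L) = W ∨ ∃ H : Subgroup L, Cfsg.IsStronglyEmbedded H)
    (Γ : Subgroup (MulAut L)) (hperf : ⁅Γ, Γ⁆ = Γ) (hfix : ∀ γ ∈ Γ, ∀ w ∈ W, γ w = w) : Γ = ⊥ := by
  classical
  haveI : Fact (Nat.Prime 2) := ⟨Nat.prime_two⟩
  obtain ⟨⟨w, hw⟩, hw1⟩ := W.ne_bot_iff_exists_ne_one.1 hne
  have hw1 : w ≠ 1 := fun e => hw1 (Subtype.ext e)
  have hP1 : (P : Subgroup L) ≠ ⊥ := fun e => hw1 (mem_bot.1 (e ▸ hWP hw))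
  have hfixP : ∀ γ ∈ Γ, ∀ t ∈ (P : Subgroup L), γ t = t := by
    rcases hcase with e | ⟨H, hH⟩
    · exact fun γ hγ t ht => hfix γ hγ t (e ▸ ht)
    obtain ⟨hfree, -, -⟩ := Fus.Gold.regular_of_se hL hH P
    have hmem : ∀ γ ∈ Γ, ∀ t ∈ (P : Subgroup L), γ t ∈ (P : Subgroup L) := by
      intro γ hγ t ht
      set Q : Sylow 2 L := P.mapSurjective (f := γ.toMonoidHom) γ.surjective with hQ
      have hQe : (Q : Subgroup L) = (P : Subgroup L).map γ.toMonoidHom := Sylow.coe_mapSurjective _ _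
      have hQP : Q = P := by
        by_contra hne'
        refine hw1 (hfree Q hne' w (hWP hw) (Sylow.smul_eq_iff_mem_normalizer.2 (le_normalizer ?_)))
        rw [hQe]
        exact ⟨w, hWP hw, hfix γ hγ w hw⟩
      have := mem_map_of_mem γ.toMonoidHom ht
      rwa [← hQe, hQP] at this
    let ρ : ↥Γ →* MulAut ↥(P : Subgroup L) := MonoidHom.mk'
      (fun γ =>
        { toFun := fun t => ⟨(γ : MulAut L) t, hmem γ γ.2 t t.2⟩
          invFun := fun t => ⟨(γ : MulAut L)⁻¹ t, hmem _ (inv_mem γ.2) t t.2⟩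
          left_inv := fun t => Subtype.ext (MulAut.inv_apply_self _ _ _)
          right_inv := fun t => Subtype.ext (MulAut.apply_inv_self _ _ _)
          map_mul' := fun a b => Subtype.ext (map_mul (γ : MulAut L) (a : L) (b : L)) })
      fun a b => MulEquiv.ext fun t => rfl
    have hB := (Fus.Gold.bender_of_se hL hH).1
    have hle : ρ.range ≤ fixInv ↥(P : Subgroup L) := by
      rintro _ ⟨γ, rfl⟩ x hx
      exact Subtype.ext (hfix γ γ.2 x (hW x x.2 (congrArg Subtype.val hx)))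
    haveI := fixInv_solvable hB P
    have hperf' : ⁅ρ.range, ρ.range⁆ = ρ.range := by
      rw [MonoidHom.range_eq_map, ← map_commutator]
      refine congrArg (Subgroup.map ρ) (map_injective (f := Γ.subtype) Γ.subtype_injective ?_)
      rw [map_commutator, ← MonoidHom.range_eq_map, Subgroup.range_subtype, hperf]
    have hbot := eq_bot_of_perfect ρ.range hperf'
      (Group.isSolvable_of_isSolvable_injective (inclusion_injective hle))
    intro γ hγ t ht
    have h1 : ρ ⟨γ, hγ⟩ = 1 := mem_bot.1 (hbot ▸ (⟨_, rfl⟩ : ρ ⟨γ, hγ⟩ ∈ ρ.range))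
    exact congrArg Subtype.val (congrArg (fun f : MulAut ↥(P : Subgroup L) => f ⟨t, ht⟩) h1)
  -- the automorphisms fixing a Sylow subgroup
  set N : Subgroup (MulAut L) := (MulAut.conj : L →* MulAut L).range with hN
  haveI : N.Normal := ⟨by
    rintro _ ⟨g, rfl⟩ f
    exact ⟨f g, MulEquiv.ext fun x => by simp⟩⟩
  have hinj : Function.Injective (MulAut.conj : L →* MulAut L) := by
    rw [injective_iff_map_eq_one]
    intro g hg
    have hgc : g ∈ center L := mem_center_iff.2 fun y => by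
      have := congrArg (fun α : MulAut L => α y) hg
      simp only [MulAut.conj_apply, MulAut.one_apply, mul_inv_eq_iff_eq_mul] at this
      exact this.symm
    rw [Transfer.CentralFour.center_eq_bot hL, mem_bot] at hgc
    exact hgc
  let eI : L ≃* ↥N := MonoidHom.ofInjective hinj
  have hNc : centralizer (N : Set (MulAut L)) = ⊥ := by
    refine (eq_bot_iff_forall _).2 fun α hα => MulEquiv.ext fun y => hinj ?_
    have h1 := mem_centralizer_iff.1 hα _ ⟨y, rfl⟩
    show MulAut.conj (α y) = MulAut.conj y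
    calc MulAut.conj (α y) = α * MulAut.conj y * α⁻¹ := by ext z; simp
      _ = MulAut.conj y := by rw [← h1, mul_inv_cancel_right]
  have hO : Cfsg.pPrimeCore 2 ↥N = ⊥ := by
    haveI : IsSimpleGroup ↥N := haveI := eI.symm.toEquiv.nontrivial
      IsSimpleGroup.isSimpleGroup_of_surjective eI.toMonoidHom eI.surjective
    refine Invol.GW.CentralFour.pPrimeCore_eq_bot ?_
    rw [← Nat.card_congr eI.toEquiv]
    have h2w : orderOf w = 2 := orderOf_eq_prime (hel.2 w hw) hw1
    exact h2w ▸ orderOf_dvd_natCard w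
  let SN : Sylow 2 ↥N := P.mapSurjective (f := eI.toMonoidHom) eI.surjective
  have hsol := Fus.SylowCent.solvable_centralizer N hNc hO SN fun K hK => S0205.result hK
  refine eq_bot_of_perfect Γ hperf (Group.isSolvable_of_isSolvable_injective (f := inclusion (K := centralizer
    (((SN : Subgroup ↥N).map N.subtype : Subgroup (MulAut L)) : Set (MulAut L))) ?_) (inclusion_injective _))
  intro γ hγ
  refine mem_centralizer_iff.2 ?_
  rintro _ ⟨_, hn, rfl⟩
  have hn' : _ ∈ (P : Subgroup L).map eI.toMonoidHom := (Sylow.coe_mapSurjective (f := eI.toMonoidHom) eI.surjective P) ▸ hn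
  obtain ⟨t, ht, rfl⟩ := hn'
  refine MulEquiv.ext fun x => ?_
  show t * γ x * t⁻¹ = γ (t * x * t⁻¹)
  rw [map_mul, map_mul, map_inv, hfixP γ hγ t ht]

end Cfsg.Agent.Transfer.ClosedCore
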