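import Cfsg.Agent.Lib.Transfer.ClosedCore.Closed
import Cfsg.Agent.Lib.Transfer.ClosedCore.BenderFix
import Cfsg.Agent.Lib.Fus.ClosedProduct.Main
import Cfsg.Agent.Lib.Fus.Goldschmidt.FourClimb
import Cfsg.Agent.Lib.Fus.Goldschmidt.Main

/-!
# The perfect core of the centraliser of a strongly closed 2-subgroup centralises its normal closure

For `P = pk C(T)` the subgroup `S ⊓ P` is strongly closed and commutes with `T`.  If they meet trivially the
theorem on disjoint commuting closed subgroups applies; otherwise the involutions of the intersection are an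
abelian closed subgroup central in `P`, and `P` acts trivially on the components it moves.
-/

set_option autoImplicit false
set_option linter.style.haveILetI false
set_option linter.unusedSectionVars false

namespace Cfsg.Agent.Transfer.ClosedCore

open Subgroup Cfsg.Agent.Grp Cfsg.Agent.Invol.StrongClosed.OneClass
open scoped commutatorElement

universe u

variable {G : Type u} [Group G] [Finite G]

/-- A nontrivial normal subgroup centralised by `X` reduces the statement to the quotient. -/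
theorem reduce_normal (hO : Cfsg.pPrimeCore 2 G = ⊥)
    (ih : ∀ (L : Type u) [Group L] [Finite L], Nat.card L < Nat.card G → Claim L)
    (S : Sylow 2 G) {T X : Subgroup G} (hT : Cfsg.IsStronglyClosed T (S : Subgroup G))
    (hX : X ≤ centralizer (T : Set G)) (hXp : ⁅X, X⁆ = X) (N : Subgroup G) [N.Normal] (hN : N ≠ ⊥)
    (hXN : X ≤ centralizer (N : Set G)) : ⁅X, normalClosure (T : Set G)⁆ = ⊥ := by
  haveI : Fact (Nat.Prime 2) := ⟨Nat.prime_two⟩
  set π := QuotientGroup.mk' N with hπ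
  have hπs : Function.Surjective π := QuotientGroup.mk'_surjective N
  have hlt : Nat.card (G ⧸ N) < Nat.card G := by
    refine lt_of_le_of_ne (Nat.le_of_dvd Nat.card_pos (card_quotient_dvd_card _)) fun e => hN ?_
    have := card_eq_card_quotient_mul_card_subgroup N
    rw [e] at this
    exact eq_bot_of_card_eq _ (mul_eq_left₀ Nat.card_pos.ne' |>.1 this.symm)
  have hcl : Cfsg.IsStronglyClosed (T.map π) ((S.mapSurjective hπs : Sylow 2 (G ⧸ N)) : Subgroup (G ⧸ N)) := by
    rw [Sylow.coe_mapSurjective]; exact S1250.result S T hT N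
  have key := ih _ hlt (S.mapSurjective hπs) (T.map π) (X.map π) hcl (by
    rintro _ ⟨x, hx, rfl⟩
    refine mem_centralizer_iff.2 ?_
    rintro _ ⟨t, ht, rfl⟩
    rw [← map_mul, ← map_mul, mem_centralizer_iff.1 (hX hx) t ht]) (map_perfect π hXp)
  set L := (Cfsg.pPrimeCore 2 (G ⧸ N)).comap π with hL
  haveI : (Cfsg.pPrimeCore 2 (G ⧸ N)).Normal := Grp.pPrimeCore_isNormal
  set N₀ := normalClosure (T : Set G) with hN₀
  haveI : N₀.Normal := normalClosure_normal
  set C := centralizer (N : Set G) with hC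
  haveI : C.Normal := by rw [hC]; infer_instance
  have h1 : ⁅X, N₀⁆ ≤ L := by
    rw [← map_le_iff_le_comap, map_commutator, hN₀, Subgroup.map_normalClosure _ π hπs]
    exact key
  -- `L ⊓ C ≤ N`
  have hLC : L ⊓ C ≤ N := by
    set Z := N ⊓ C with hZdef
    have hZc : ∀ a ∈ Z, ∀ b ∈ Z, a * b = b * a := fun a ha b hb => mem_centralizer_iff.1 hb.2 a ha.1
    have hZ2 : IsPGroup 2 Z :=
      S.isPGroup'.to_le ((Fus.ClosedProduct.abelian_le_pCore hO hZc).trans (Grp.pCore_le_sylow S))
    refine (Fus.ClosedProduct.le_two_of_odd_quotient hO hZ2 (le_inf (fun z hz => mem_comap.2 ?_) inf_le_right)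
      (fun z hz e he => mem_centralizer_iff.1 he.2 z hz.1) ?_).trans inf_le_left
    · rw [show π z = 1 from (QuotientGroup.eq_one_iff z).2 hz.1]; exact one_mem _
    · have h3 := inf_relIndex_right N (L ⊓ C)
      have h4 := relIndex_ker (f := π) (K := L ⊓ C)
      rw [QuotientGroup.ker_mk'] at h4
      have h5 : Odd (N.relIndex (L ⊓ C)) := by
        rw [h4]
        exact Invol.odd_oddCore.of_dvd_nat (card_dvd_of_le (by rintro _ ⟨e, he, rfl⟩; exact he.1))
      rw [show Z.relIndex (L ⊓ C) = N.relIndex (L ⊓ C) by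
        rw [hZdef, ← inf_relIndex_right (H := N ⊓ C), ← h3]
        congr 1
        rw [inf_assoc]
        congr 1
        exact inf_eq_right.2 inf_le_right]
      exact h5
  have hXC : ⁅L, X⁆ ≤ N := (le_inf (commutator_le_left L X)
    ((commutator_mono le_rfl hXN).trans (commutator_le_right L C))).trans hLC
  have hNX : ⁅N, X⁆ = ⊥ := by
    rw [commutator_comm, commutator_eq_bot_iff_le_centralizer]; exact hXN
  have hxn : ∀ A : Subgroup G, ⁅⁅A, X⁆, X⁆ = ⊥ → ⁅X, A⁆ = ⊥ := fun A hA => by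
    have h := commutator_commutator_eq_bot_of_rotate (H₁ := X) (H₂ := X) (H₃ := A)
      (by rw [commutator_comm X A]; exact hA) hA
    rwa [hXp] at h
  have hA : ⁅X, ⁅N₀, X⁆⁆ = ⊥ := hxn _ <| by
    refine le_bot_iff.1 ((commutator_mono ?_ le_rfl).trans hNX.le)
    refine (commutator_mono ?_ le_rfl).trans hXC
    rw [commutator_comm]; exact h1
  exact hxn _ (by rw [commutator_comm]; exact hA)

/-- The Sylow 2-subgroups of the perfect core. -/
theorem odd_relIndex_inf {S : Sylow 2 G} {P : Subgroup G} (hS : (S : Subgroup G) ≤ normalizer (P : Set G)) :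
    Odd (((S : Subgroup G) ⊓ P).relIndex P) := by
  haveI : Fact (Nat.Prime 2) := ⟨Nat.prime_two⟩
  set N := normalizer (P : Set G)
  have hPN : P ≤ N := le_normalizer
  haveI : (P.subgroupOf N).Normal := normal_in_normalizer
  have h := Grp.sylow_inf_normal_relIndex (S.subtype hS) (P.subgroupOf N)
  refine Nat.not_even_iff_odd.1 fun he => h ?_
  rw [inf_relIndex_right] at he
  rw [Sylow.coe_subtype, relIndex_subgroupOf hPN]
  exact even_iff_two_dvd.1 he

/-- A perfect group of elements commuting with a strongly closed elementary subgroup centralises the components it moves. -/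
theorem le_centralizer_moved {Ab : Subgroup G} (h : Fus.Gold.LocalHyp G Ab) {S : Sylow 2 G} (hA : Ab ≤ S)
    {P : Subgroup G} (hPp : ⁅P, P⁆ = P) (hPA : ∀ p ∈ P, ∀ a ∈ Ab, p * a = a * p)
    {K : Subgroup G} (hK : Cfsg.IsComponent K) (hm : ¬ Ab ≤ centralizer (K : Set G)) :
    P ≤ centralizer (K : Set G) := by
  classical
  haveI : Fact (Nat.Prime 2) := ⟨Nat.prime_two⟩
  obtain ⟨Pb, hPb, -, hel, hne, hcase, hinv, -, -⟩ := Fus.Gold.exists_data h hK hA hm
  haveI := hK.2.2
  have hnc := Fus.Gold.not_comm_quotient hK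
  have hPN : ∀ p ∈ P, p ∈ normalizer (K : Set G) := fun p hp =>
    Fus.ClosedProduct.normalizes_of_commute h hA hK hm fun a ha => hPA p hp a ha
  let π := QuotientGroup.mk' (center ↥K)
  have hcj : ∀ (p : G) (hp : p ∈ normalizer (K : Set G)) (k : ↥K), Fus.Gold.conjQ hp (π k) =
      π ⟨p * k * p⁻¹, mem_conj_normalizer hp k.2⟩ := fun _ _ _ => rfl
  let ρ : ↥P →* MulAut (↥K ⧸ center ↥K) := MonoidHom.mk'
    (fun p =>
      { toFun := Fus.Gold.conjQ (hPN p p.2)
        invFun := Fus.Gold.conjQ (hPN (p : G)⁻¹ (inv_mem p.2))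
        left_inv := fun x => by
          obtain ⟨k, rfl⟩ := QuotientGroup.mk'_surjective (center ↥K) x
          rw [hcj, hcj]
          exact congrArg π (Subtype.ext (by simp [mul_assoc]))
        right_inv := fun x => by
          obtain ⟨k, rfl⟩ := QuotientGroup.mk'_surjective (center ↥K) x
          rw [hcj, hcj]
          exact congrArg π (Subtype.ext (by simp [mul_assoc]))
        map_mul' := map_mul _ })
    fun a b => MulEquiv.ext fun x => by
      obtain ⟨k, rfl⟩ := QuotientGroup.mk'_surjective (center ↥K) x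
      show Fus.Gold.conjQ (hPN _ (a * b).2) (π k) = Fus.Gold.conjQ (hPN _ a.2) (Fus.Gold.conjQ (hPN _ b.2) (π k))
      rw [hcj, hcj, hcj]
      exact congrArg π (Subtype.ext (by simp [mul_assoc]))
  have hperf : ⁅ρ.range, ρ.range⁆ = ρ.range := by
    rw [MonoidHom.range_eq_map, ← map_commutator]
    refine congrArg (Subgroup.map ρ) (map_injective (f := P.subtype) P.subtype_injective ?_)
    rw [map_commutator, ← MonoidHom.range_eq_map, Subgroup.range_subtype, hPp]
  have hbot := perfect_aut_eq_bot hnc Pb hne hel (fun x hx => by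
    obtain ⟨e, he, rfl⟩ := hx
    exact (hPb e).2 (hA (mem_subgroupOf.1 he).1)) hinv hcase ρ.range hperf (by
      rintro _ ⟨p, rfl⟩ _ ⟨e, he, rfl⟩
      show Fus.Gold.conjQ (hPN p p.2) (π e) = π e
      rw [hcj]
      exact congrArg π (Subtype.ext (show (p : G) * e * (p : G)⁻¹ = e by
        rw [hPA p p.2 _ (mem_subgroupOf.1 he).1, mul_inv_cancel_right])))
  refine le_centralizer_iff.1 (le_centralizer_of_perfect (B := P) (IsComponent.perfect hK) ?_)
  rw [commutator_eq_bot_iff_le_centralizer, commutator_le]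
  intro k hk p hp
  have h1 : ρ ⟨p, hp⟩ = 1 := mem_bot.1 (hbot ▸ (⟨_, rfl⟩ : ρ ⟨p, hp⟩ ∈ ρ.range))
  have h2 : Fus.Gold.conjQ (hPN p hp) (π ⟨k⁻¹, inv_mem hk⟩) = π ⟨k⁻¹, inv_mem hk⟩ :=
    congrArg (fun f : MulAut (↥K ⧸ center ↥K) => f (π ⟨k⁻¹, inv_mem hk⟩)) h1
  rw [hcj] at h2
  have h3 := (Fus.Gold.mk_eq_mk hK).1 h2.symm
  change k⁻¹⁻¹ * (p * k⁻¹ * p⁻¹) ∈ centralizer (K : Set G) at h3
  rw [commutatorElement_def]
  rwa [show k⁻¹⁻¹ * (p * k⁻¹ * p⁻¹) = k * p * k⁻¹ * p⁻¹ by group] at h3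

/-- The statement for `G` when it holds for the smaller groups. -/
theorem claim_step (ih : ∀ (L : Type u) [Group L] [Finite L], Nat.card L < Nat.card G → Claim L)
    (hO : Cfsg.pPrimeCore 2 G = ⊥) (S : Sylow 2 G) (T : Subgroup G)
    (hT : Cfsg.IsStronglyClosed T (S : Subgroup G)) :
    ⁅pk (centralizer (T : Set G)), normalClosure (T : Set G)⁆ = ⊥ := by
  classical
  haveI : Fact (Nat.Prime 2) := ⟨Nat.prime_two⟩
  set P := pk (centralizer (T : Set G)) with hP
  have hPC : P ≤ centralizer (T : Set G) := pk_le _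
  have hPT : ∀ p ∈ P, ∀ t ∈ T, t * p = p * t := fun p hp t ht => mem_centralizer_iff.1 (hPC hp) t ht
  have hred := reduce_normal hO ih S hT hPC (pk_perfect _)
  by_cases hT1 : T = ⊥
  · rw [commutator_eq_bot_iff_le_centralizer]
    intro x _
    refine mem_centralizer_iff.2 fun y hy => ?_
    have : y ∈ (⊥ : Subgroup G) := normalClosure_le_normal (N := ⊥) (fun t ht => by rwa [hT1] at ht) hy
    rw [mem_bot.1 this, one_mul, mul_one]
  obtain ⟨z, hzT, hz, hzS⟩ := Fus.Gold.exists_central_involution S.isPGroup' hT.1 hT1 fun s hs x hx =>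
    (mem_normalizer_iff.1 (Invol.sylow_le_normalizer_stronglyClosed hT hs) x).1 hx
  -- no involution of `T` is central
  by_cases hcent : ∃ d ∈ T, orderOf d = 2 ∧ centralizer ({d} : Set G) = ⊤
  · obtain ⟨d, hdT, hd, hdc⟩ := hcent
    have hdcen : d ∈ center G := mem_center_iff.2 fun g =>
      mem_centralizer_singleton_iff.1 (hdc ▸ mem_top g : g ∈ centralizer ({d} : Set G))
    haveI : (zpowers d).Normal := ⟨fun x hx g => by
      rw [mem_center_iff.1 (zpowers_le.2 hdcen hx) g, mul_inv_cancel_right]; exact hx⟩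
    refine hred (zpowers d) (fun e => ?_) fun p hp => mem_centralizer_iff.2 fun x hx => ?_
    · rw [zpowers_eq_bot] at e; rw [e, orderOf_one] at hd; omega
    · exact hPT p hp x (zpowers_le.2 hdT hx)
  push Not at hcent
  have hlt : ∀ H : Subgroup G, H ≠ ⊤ → Nat.card H < Nat.card G := fun H hH =>
    lt_of_le_of_ne (card_le_card_group H) fun e => hH (eq_top_of_card_eq H e)
  have hR := closed_inf_pk hT (fun H ⟨d, hdT, hd, hle⟩ => ih ↥H
    (lt_of_le_of_lt (Nat.card_mono (Set.toFinite _) hle) (hlt _ (hcent d hdT hd)))) hzT hz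
    fun s hs => hzS s hs
  set R := (S : Subgroup G) ⊓ P with hRdef
  have hRT : ∀ a ∈ R, ∀ b ∈ T, a * b = b * a := fun a ha b hb => (hPT a ha.2 b hb).symm
  set N₀ := normalClosure (T : Set G) with hN₀
  haveI : N₀.Normal := normalClosure_normal
  by_cases hd : R ⊓ T = ⊥
  · -- `R` centralises `⟨T^G⟩`
    have hdis := Fus.ClosedProduct.commutator_eq_bot hO S R T hR hT hRT hd
    rw [commutator_eq_bot_iff_le_centralizer] at hdis ⊢
    set C := centralizer (N₀ : Set G) with hC
    haveI : C.Normal := by rw [hC]; infer_instance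
    set φ := QuotientGroup.mk' C with hφ
    have hodd : Odd (Nat.card (P.map φ)) := by
      have h4 := relIndex_ker (f := φ) (K := P)
      rw [QuotientGroup.ker_mk'] at h4
      rw [← h4]
      have hRC : R ≤ C ⊓ P := le_inf (fun r hr => hdis (subset_normalClosure hr)) inf_le_right
      rw [← inf_relIndex_right C P]
      exact (odd_relIndex_inf (sylow_normalizes_pk hT)).of_dvd_nat (relIndex_dvd_of_le_left P hRC)
    have hb := eq_bot_of_perfect (P.map φ) (map_perfect φ (pk_perfect _)) (S0205.result hodd)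
    rw [Subgroup.map_eq_bot_iff, QuotientGroup.ker_mk'] at hb
    exact hb
  let Ab : Subgroup G :=
    { carrier := {x | x ∈ R ⊓ T ∧ x * x = 1}
      one_mem' := ⟨one_mem _, mul_one 1⟩
      mul_mem' := fun {a b} ha hb => ⟨mul_mem ha.1 hb.1, by
        rw [show a * b * (a * b) = a * (b * a) * b by group, ← hRT a ha.1.1 b hb.1.2,
          show a * (a * b) * b = (a * a) * (b * b) by group, ha.2, hb.2, mul_one]⟩
      inv_mem' := fun {a} ha => ⟨inv_mem ha.1, by rw [← mul_inv_rev, ha.2, inv_one]⟩ }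
  have hAS : Ab ≤ (S : Subgroup G) := fun x hx => hT.1 hx.1.2
  have hAc : ∀ a ∈ Ab, ∀ b ∈ Ab, a * b = b * a := fun a ha b hb => hRT a ha.1.1 b hb.1.2
  have hclosed : Cfsg.IsStronglyClosed Ab (S : Subgroup G) := ⟨hAS, fun x hx g hg =>
    ⟨⟨hR.2 x hx.1.1 g hg, hT.2 x hx.1.2 g hg⟩, by
      rw [show g * x * g⁻¹ * (g * x * g⁻¹) = g * (x * x) * g⁻¹ by group, hx.2]; group⟩⟩
  have hPA : ∀ p ∈ P, ∀ a ∈ Ab, p * a = a * p := fun p hp a ha => (hPT p hp a ha.1.2).symm
  haveI hQn : (Cfsg.pCore 2 G).Normal := Grp.pCore_isNormal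
  by_cases hQ : Ab ⊓ Cfsg.pCore 2 G = ⊥
  swap
  · haveI : (Ab ⊓ Cfsg.pCore 2 G).Normal := ⟨fun x hx g =>
      mem_inf.2 ⟨hclosed.2 x hx.1 g (Grp.pCore_le_sylow S (hQn.conj_mem x hx.2 g)), hQn.conj_mem x hx.2 g⟩⟩
    exact hred _ hQ fun p hp => mem_centralizer_iff.2 fun a ha => (hPA p hp a ha.1).symm
  have h : Fus.Gold.LocalHyp G Ab :=
    { core := hO
      elem := ⟨⟨⟨fun a b => Subtype.ext (hAc a a.2 b b.2)⟩⟩, fun x hx => by rw [pow_two]; exact hx.2⟩
      closed := fun R' hR' hAR x hx g hg => by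
        obtain ⟨k, hk⟩ := Fus.ClosedProduct.move S hR'
        have hkA : ∀ a ∈ Ab, k * a * k⁻¹ ∈ Ab := fun a ha => hclosed.2 a ha k (hk a (hAR ha))
        refine (mem_normalizer_iff.1 (mem_normalizer_fintype hkA : k ∈ normalizer (Ab : Set G)) _).2 ?_
        have h1 := hclosed.2 x hx (k * g) (by
          rw [show k * g * x * (k * g)⁻¹ = k * (g * x * g⁻¹) * k⁻¹ by group]; exact hk _ hg)
        rwa [show k * g * x * (k * g)⁻¹ = k * (g * x * g⁻¹) * k⁻¹ by group] at h1
      comp := fun K hK => by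
        haveI := hK.2.2
        exact Fus.Gold.conclusion_all _ hK.2.2 (Fus.Gold.not_comm_quotient hK) }
  set 𝒦 : Set (Subgroup G) := {K | Cfsg.IsComponent K ∧ ¬ Ab ≤ centralizer (K : Set G)} with h𝒦
  haveI : (sSup 𝒦).Normal := Fus.ClosedProduct.sSup_normal _ fun K hK g =>
    ⟨IsComponent.conj hK.1 g, Fus.ClosedProduct.moved_conj h hAS hK.1 hK.2 g⟩
  refine hred (sSup 𝒦) (fun e => ?_) ?_
  · -- some component moves
    obtain ⟨w, hwRT, hwc⟩ := Fus.Gold.exists_central_involution S.isPGroup'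
      (inf_le_right.trans hT.1 : R ⊓ T ≤ (S : Subgroup G)) hd fun s hs x hx =>
      mem_inf.2 ⟨(mem_normalizer_iff.1 (Invol.sylow_le_normalizer_stronglyClosed hR hs) x).1 hx.1,
        (mem_normalizer_iff.1 (Invol.sylow_le_normalizer_stronglyClosed hT hs) x).1 hx.2⟩
    have hwA : w ∈ Ab := ⟨hwRT, by rw [← pow_two, ← hwc.1, pow_orderOf_eq_one]⟩
    have hw1 : w = 1 := Fus.ClosedProduct.eq_one_of_centralizes h hAS hQ hwA fun K hK hm =>
      mem_centralizer_iff.2 fun k hk => by
        have : k ∈ sSup 𝒦 := le_sSup (show K ∈ 𝒦 from ⟨hK, hm⟩) hk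
        rw [e, mem_bot] at this
        rw [this, one_mul, mul_one]
    rw [hw1, orderOf_one] at hwc
    exact absurd hwc.1 (by omega)
  · refine le_centralizer_iff.1 (sSup_le fun K hK => le_centralizer_iff.1 ?_)
    exact le_centralizer_moved h hAS (pk_perfect _) hPA hK.1 hK.2

theorem claim : ∀ (n : ℕ) (G : Type u) [Group G] [Finite G], Nat.card G = n → Claim G := by
  intro n
  induction n using Nat.strong_induction_on with
  | _ n ihn =>
  intro G _ _ hn S T X hT hX hXp
  haveI : Fact (Nat.Prime 2) := ⟨Nat.prime_two⟩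
  have ih : ∀ (L : Type u) [Group L] [Finite L], Nat.card L < Nat.card G → Claim L :=
    fun L _ _ hL => ihn _ (hn ▸ hL) L rfl
  by_cases hO : Cfsg.pPrimeCore 2 G = ⊥
  · rw [hO, le_bot_iff, ← le_bot_iff, ← claim_step ih hO S T hT]
    exact commutator_mono (le_pk hX hXp) le_rfl
  haveI : (Cfsg.pPrimeCore 2 G).Normal := Grp.pPrimeCore_isNormal
  set O := Cfsg.pPrimeCore 2 G with hOdef
  set π := QuotientGroup.mk' O with hπ
  have hπs : Function.Surjective π := QuotientGroup.mk'_surjective O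
  have hlt : Nat.card (G ⧸ O) < Nat.card G := by
    refine lt_of_le_of_ne (Nat.le_of_dvd Nat.card_pos (card_quotient_dvd_card _)) fun e => hO ?_
    have := card_eq_card_quotient_mul_card_subgroup O
    rw [e] at this
    exact eq_bot_of_card_eq _ (mul_eq_left₀ Nat.card_pos.ne' |>.1 this.symm)
  have key := ih _ hlt (S.mapSurjective hπs) (T.map π) (X.map π)
    (by rw [Sylow.coe_mapSurjective]; exact S1250.result S T hT O) (by
      rintro _ ⟨x, hx, rfl⟩
      refine mem_centralizer_iff.2 ?_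
      rintro _ ⟨t, ht, rfl⟩
      rw [← map_mul, ← map_mul, mem_centralizer_iff.1 (hX hx) t ht]) (map_perfect π hXp)
  rw [Grp.pPrimeCore_quotient_bot] at key
  intro c hc
  refine (QuotientGroup.eq_one_iff c).1 ?_
  have h1 : π c ∈ (⁅X, normalClosure (T : Set G)⁆).map π := mem_map_of_mem π hc
  rw [map_commutator, Subgroup.map_normalClosure _ π hπs] at h1
  exact mem_bot.1 (key h1)

/-- The perfect core of the centraliser of a strongly closed 2-subgroup is normal when `O(G) = 1`. -/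
theorem pk_centralizer_normal (hO : Cfsg.pPrimeCore 2 G = ⊥) (S : Sylow 2 G) (T : Subgroup G)
    (hT : Cfsg.IsStronglyClosed T (S : Subgroup G)) : (pk (centralizer (T : Set G))).Normal := by
  haveI : Fact (Nat.Prime 2) := ⟨Nat.prime_two⟩
  set P := pk (centralizer (T : Set G)) with hP
  set N₀ := normalClosure (T : Set G) with hN₀
  haveI : N₀.Normal := normalClosure_normal
  have hc : ⁅P, N₀⁆ = ⊥ := le_bot_iff.1 (hO ▸ claim _ G rfl S T P hT (pk_le _) (pk_perfect _))
  rw [commutator_eq_bot_iff_le_centralizer] at hc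
  refine ⟨fun x hx g => ?_⟩
  -- `g ∈ N₀ N(T)`
  have hp : IsPGroup 2 ((S : Subgroup G).subgroupOf N₀) := S.isPGroup'.comap_subtype
  let Q : Sylow 2 ↥N₀ := hp.toSylow (Grp.sylow_inf_normal_relIndex S N₀)
  have hfr := Sylow.normalizer_sup_eq_top Q
  have hmap : (Q : Subgroup ↥N₀).map N₀.subtype = (S : Subgroup G) ⊓ N₀ := by
    show ((S : Subgroup G).subgroupOf N₀).map N₀.subtype = _
    rw [Subgroup.subgroupOf_map_subtype]
  obtain ⟨n, hn, m, hm, rfl⟩ := Subgroup.mem_sup_of_normal_left.1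
    (show g ∈ N₀ ⊔ normalizer (((Q : Subgroup ↥N₀).map N₀.subtype : Subgroup G) : Set G) by
      rw [sup_comm, hfr]; exact mem_top g)
  rw [hmap] at hm
  have hmT : ∀ t ∈ T, m * t * m⁻¹ ∈ T := fun t ht => hT.2 t ht m
    ((mem_normalizer_iff.1 hm t).1 ⟨hT.1 ht, subset_normalClosure ht⟩).1
  have hmN : m ∈ normalizer (T : Set G) := mem_normalizer_fintype hmT
  have hy : m * x * m⁻¹ ∈ P := pk_conj_mem (fun c hc' => mem_centralizer_iff.2 fun t ht => by
    have h1 := mem_centralizer_iff.1 hc' _ ((mem_normalizer_iff.1 (inv_mem hmN) t).1 ht)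
    rw [inv_inv] at h1
    calc t * (m * c * m⁻¹) = m * (m⁻¹ * t * m * c) * m⁻¹ := by group
      _ = m * (c * (m⁻¹ * t * m)) * m⁻¹ := by rw [h1]
      _ = _ := by group) hx
  rw [show n * m * x * (n * m)⁻¹ = n * (m * x * m⁻¹) * n⁻¹ by group,
    mem_centralizer_iff.1 (hc hy) n hn, mul_inv_cancel_right]
  exact hy

theorem iInf_derivedSeries_eq_pk (C : Subgroup G) : (⨅ n : ℕ, derivedSeries ↥C n).map C.subtype = pk C := by
  refine le_antisymm ?_ ?_
  · obtain ⟨n, hn⟩ := exists_dser_eq_pk C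
    rw [← hn, Grp.CW.dser_eq_map]
    exact map_mono (iInf_le _ n)
  · intro x hx
    refine ⟨⟨x, pk_le C hx⟩, mem_iInf.2 fun n => ?_, rfl⟩
    have h1 := le_dser_of_perfect (pk_le C) (pk_perfect C) n hx
    rw [Grp.CW.dser_eq_map] at h1
    obtain ⟨y, hy, hyx⟩ := h1
    exact (Subtype.ext hyx : y = ⟨x, pk_le C hx⟩) ▸ hy

end Cfsg.Agent.Transfer.ClosedCore
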