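import Mathlib
import Cfsg.Prelude.Def_TwoFusion
import Cfsg.Agent.Lib.Grp.CoprimeWord.Layers
import Cfsg.Agent.Lib.Grp.Cores
import Cfsg.Agent.Lib.Invol.StronglyClosedDisjoint
import Cfsg.Agent.Lib.Fus.ClosedProduct.Disjoint
import Cfsg.Agent.Lib.Grp.PComponents
import Cfsg.Agent.S1250
import Cfsg.Agent.S0205

/-!
# Perfect cores, odd cores of subgroups, and a strongly closed subgroup against a perfect normal subgroup
-/

set_option autoImplicit false
set_option linter.style.haveILetI false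
set_option linter.unusedSectionVars false

namespace Cfsg.Agent.Transfer.ClosedCore

open Subgroup
open scoped commutatorElement

universe u

variable {G : Type u} [Group G]

/-- The largest perfect subgroup of `H`. -/
def pk (H : Subgroup G) : Subgroup G := sSup {X | X ≤ H ∧ ⁅X, X⁆ = X}

theorem pk_le (H : Subgroup G) : pk H ≤ H := sSup_le fun _ h => h.1

theorem le_pk {X H : Subgroup G} (h : X ≤ H) (hp : ⁅X, X⁆ = X) : X ≤ pk H := le_sSup ⟨h, hp⟩

theorem pk_perfect (H : Subgroup G) : ⁅pk H, pk H⁆ = pk H := by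
  refine le_antisymm (commutator_le.2 fun a ha b hb => ?_) (sSup_le fun X hX => ?_)
  · rw [commutatorElement_def]
    exact mul_mem (mul_mem (mul_mem ha hb) (inv_mem ha)) (inv_mem hb)
  · have hle : X ≤ pk H := le_sSup hX
    exact hX.2.symm.le.trans (commutator_mono hle hle)

theorem map_perfect {K : Type*} [Group K] (f : G →* K) {X : Subgroup G} (hp : ⁅X, X⁆ = X) :
    ⁅X.map f, X.map f⁆ = X.map f := by rw [← map_commutator, hp]

theorem pk_conj_mem {H : Subgroup G} {g : G} (hg : ∀ h ∈ H, g * h * g⁻¹ ∈ H) {x : G} (hx : x ∈ pk H) :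
    g * x * g⁻¹ ∈ pk H :=
  le_pk (by rintro _ ⟨y, hy, rfl⟩; exact hg y (pk_le H hy))
    (map_perfect (MulAut.conj g).toMonoidHom (pk_perfect H)) ⟨x, hx, rfl⟩

theorem pk_conj_mem' {H H' : Subgroup G} {g : G} (hg : ∀ h ∈ H, g * h * g⁻¹ ∈ H') {x : G} (hx : x ∈ pk H) :
    g * x * g⁻¹ ∈ pk H' :=
  le_pk (by rintro _ ⟨y, hy, rfl⟩; exact hg y (pk_le H hy))
    (map_perfect (MulAut.conj g).toMonoidHom (pk_perfect H)) ⟨x, hx, rfl⟩

theorem le_dser_of_perfect {X H : Subgroup G} (h : X ≤ H) (hp : ⁅X, X⁆ = X) : ∀ n, X ≤ Grp.CW.dser H n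
  | 0 => h
  | n + 1 => hp.symm.le.trans (commutator_mono (le_dser_of_perfect h hp n) (le_dser_of_perfect h hp n))

theorem exists_dser_eq_pk [Finite G] (H : Subgroup G) : ∃ n, Grp.CW.dser H n = pk H := by
  obtain ⟨C, ⟨n, rfl⟩, hC⟩ := Set.exists_min_image (Set.range (Grp.CW.dser H)) (fun C => Nat.card C)
    (Set.toFinite _) ⟨_, 0, rfl⟩
  refine ⟨n, le_antisymm (le_pk (Grp.CW.dser_le H n) ?_) (le_dser_of_perfect (pk_le H) (pk_perfect H) n)⟩
  exact eq_of_le_of_card_ge (Grp.CW.dser_antitone H n.le_succ) (hC _ ⟨n + 1, rfl⟩)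

theorem commutator_sup_le {A N : Subgroup G} (hA : A ≤ normalizer (N : Set G)) :
    ⁅A ⊔ N, A ⊔ N⁆ ≤ ⁅A, A⁆ ⊔ N := by
  have hN : A ⊔ N ≤ normalizer (N : Set G) := sup_le hA le_normalizer
  have hAA : ⁅A, A⁆ ≤ normalizer (N : Set G) := (commutator_le.2 fun a ha b hb => by
    rw [commutatorElement_def]; exact mul_mem (mul_mem (mul_mem ha hb) (inv_mem ha)) (inv_mem hb)).trans hA
  have hconj : ∀ z ∈ normalizer (N : Set G), ∀ n ∈ N, z * n * z⁻¹ ∈ N :=
    fun z hz n hn => (mem_normalizer_iff.1 hz n).1 hn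
  have hleft : ∀ n ∈ N, ∀ y ∈ normalizer (N : Set G), ⁅n, y⁆ ∈ N := fun n hn y hy => by
    rw [show ⁅n, y⁆ = n * (y * n⁻¹ * y⁻¹) by rw [commutatorElement_def]; group]
    exact mul_mem hn (hconj y hy _ (inv_mem hn))
  have hright : ∀ n ∈ N, ∀ y ∈ normalizer (N : Set G), ⁅y, n⁆ ∈ N := fun n hn y hy => by
    rw [← commutatorElement_inv]; exact inv_mem (hleft n hn y hy)
  refine commutator_le.2 fun x hx y hy => ?_
  rw [← SetLike.mem_coe, coe_mul_of_left_le_normalizer_right _ _ hA] at hx hy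
  obtain ⟨a, ha, o, ho, rfl⟩ := hx
  obtain ⟨b, hb, p, hp, rfl⟩ := hy
  have e : ⁅a * o, b * p⁆ = a * ⁅o, b * p⁆ * a⁻¹ * (⁅a, b⁆ * (b * ⁅a, p⁆ * b⁻¹)) := by
    simp only [commutatorElement_def]; group
  rw [e]
  exact mul_mem (mem_sup_right (hconj a (hA ha) _ (hleft o ho _ (mul_mem (hA hb) (le_normalizer hp)))))
    (mul_mem_sup (commutator_mem_commutator ha hb) (hconj b (hA hb) _ (hright p hp a (hA ha))))

/-- A perfect subgroup of `C N` lies in `pk C · N`. -/
theorem le_pk_sup [Finite G] {X C N : Subgroup G} (hC : C ≤ normalizer (N : Set G)) (hX : X ≤ C ⊔ N)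
    (hp : ⁅X, X⁆ = X) : X ≤ pk C ⊔ N := by
  obtain ⟨n, hn⟩ := exists_dser_eq_pk C
  suffices h : ∀ k, X ≤ Grp.CW.dser C k ⊔ N from hn ▸ h n
  intro k
  induction k with
  | zero => exact hX
  | succ k ih =>
    exact hp.symm.le.trans ((commutator_mono ih ih).trans
      (commutator_sup_le ((Grp.CW.dser_le C k).trans hC)))

theorem pk_eq_bot_of_odd [Finite G] {O : Subgroup G} (hO : Odd (Nat.card O)) : pk O = ⊥ := by
  haveI : Group.IsSolvable ↥O := S0205.result hO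
  obtain ⟨n, hn⟩ := (Group.isSolvable_def _).1 ‹_›
  rw [← le_bot_iff]
  refine (le_dser_of_perfect (pk_le O) (pk_perfect O) n).trans ?_
  rw [Grp.CW.dser_eq_map, hn, Subgroup.map_bot]

/-- A perfect subgroup of `O N` with `O` odd lies in `N`. -/
theorem le_of_perfect_sup [Finite G] {X O N : Subgroup G} (hO : Odd (Nat.card O))
    (hON : O ≤ normalizer (N : Set G)) (hX : X ≤ N ⊔ O) (hp : ⁅X, X⁆ = X) : X ≤ N := by
  have := le_pk_sup hON (hX.trans (sup_comm _ _).le) hp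
  rwa [pk_eq_bot_of_odd hO, bot_sup_eq] at this

/-- The odd core of a subgroup. -/
def oH (H : Subgroup G) : Subgroup G := (Cfsg.pPrimeCore 2 ↥H).map H.subtype

theorem oH_le (H : Subgroup G) : oH H ≤ H := map_subtype_le _

theorem odd_oH [Finite G] (H : Subgroup G) : Odd (Nat.card (oH H)) := by
  rw [oH, card_map_of_injective H.subtype_injective]
  exact Invol.odd_oddCore

theorem oH_conj_mem {H : Subgroup G} {h x : G} (hh : h ∈ H) (hx : x ∈ oH H) : h * x * h⁻¹ ∈ oH H := by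
  obtain ⟨y, hy, rfl⟩ := hx
  haveI : (Cfsg.pPrimeCore 2 ↥H).Normal := Grp.pPrimeCore_isNormal
  exact ⟨⟨h, hh⟩ * y * ⟨h, hh⟩⁻¹, Normal.conj_mem inferInstance y hy _, rfl⟩

theorem le_normalizer_oH [Finite G] (H : Subgroup G) : H ≤ normalizer (oH H : Set G) := fun h hh =>
  mem_normalizer_fintype fun x hx => oH_conj_mem hh hx

theorem le_oH {H N : Subgroup G} (hNH : N ≤ H) (hn : ∀ h ∈ H, ∀ x ∈ N, h * x * h⁻¹ ∈ N)
    (hodd : Odd (Nat.card N)) : N ≤ oH H := by
  intro x hx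
  have h1 : N.subgroupOf H ≤ Cfsg.pPrimeCore 2 ↥H := Grp.le_pPrimeCore
    ⟨fun a ha g => mem_subgroupOf.2 (hn g g.2 a (mem_subgroupOf.1 ha))⟩
    (by rw [Nat.card_congr (subgroupOfEquivOfLe hNH).toEquiv]; exact Nat.coprime_two_right.2 hodd)
  exact ⟨⟨x, hNH hx⟩, h1 (mem_subgroupOf.2 hx), rfl⟩

/-- A 2-element congruent to an odd element modulo `M`. -/
theorem mem_of_two_of_odd [Finite G] {M : Subgroup G} {v o : G} (hv : v ∈ normalizer (M : Set G)) {k : ℕ}
    (hv2 : v ^ 2 ^ k = 1) (ho : Odd (orderOf o)) (h : v⁻¹ * o ∈ M) : v ∈ M ∧ o ∈ M := by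
  have hon : o ∈ normalizer (M : Set G) := by
    simpa using mul_mem hv (le_normalizer h)
  let N := normalizer (M : Set G)
  let q := QuotientGroup.mk' (M.subgroupOf N)
  have he : q ⟨v, hv⟩ = q ⟨o, hon⟩ := QuotientGroup.eq.2 (mem_subgroupOf.2 h)
  have h1 : q ⟨v, hv⟩ = 1 := orderOf_eq_one_iff.1 <| Nat.eq_one_of_dvd_coprimes
    (Nat.Coprime.pow_left k (Nat.coprime_two_left.2 ho))
    (orderOf_dvd_of_pow_eq_one (by
      rw [← map_pow, show (⟨v, hv⟩ : ↥N) ^ 2 ^ k = 1 from Subtype.ext hv2, map_one]))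
    (he ▸ (orderOf_map_dvd q _).trans (by rw [Subgroup.orderOf_mk]))
  have hvM : v ∈ M := mem_subgroupOf.1 ((QuotientGroup.eq_one_iff _).1 h1)
  exact ⟨hvM, by simpa using mul_mem hvM h⟩

/-- An element centralising a 2-group modulo an odd normalised group does so up to an element of it. -/
theorem exists_mul_centralizer [Finite G] {T O : Subgroup G} (hT : IsPGroup 2 T) (hO : Odd (Nat.card O))
    (hTn : T ≤ normalizer (O : Set G)) {h : G} (hh : h ∈ normalizer (O : Set G))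
    (hc : ∀ t ∈ T, ⁅h, t⁆ ∈ O) : ∃ o ∈ O, o * h ∈ centralizer (T : Set G) := by
  haveI : Fact (Nat.Prime 2) := ⟨Nat.prime_two⟩
  set J := T ⊔ O
  have hdec : ∀ y ∈ J, ∃ t ∈ T, ∃ o ∈ O, y = o * t := by
    intro y hy
    rw [← SetLike.mem_coe, coe_mul_of_left_le_normalizer_right _ _ hTn] at hy
    obtain ⟨t, ht, o, ho, rfl⟩ := hy
    exact ⟨t, ht, t * o * t⁻¹, (mem_normalizer_iff.1 (hTn ht) o).1 ho, by group⟩
  have hone : ∀ y ∈ O, ∀ k : ℕ, y ^ 2 ^ k = 1 → y = 1 := fun y hy k hk =>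
    Fus.ClosedPair.eq_one_of_odd_two (hO.of_dvd_nat (Subgroup.orderOf_dvd_natCard _ hy)) hk
  obtain ⟨Q, hQ⟩ := (IsPGroup.comap_subtype hT (K := J) : IsPGroup 2 ↥(T.subgroupOf J)).exists_le_sylow
  have hQT : ∀ q : ↥J, q ∈ (Q : Subgroup ↥J) → (q : G) ∈ T := by
    intro q hq
    obtain ⟨t, ht, o, ho, e⟩ := hdec q q.2
    have hm : (⟨o, mem_sup_right ho⟩ : ↥J) ∈ (Q : Subgroup ↥J) := by
      rw [show (⟨o, mem_sup_right ho⟩ : ↥J) = q * (⟨t, mem_sup_left ht⟩ : ↥J)⁻¹ from Subtype.ext (by simp [e])]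
      exact mul_mem hq (inv_mem (hQ (mem_subgroupOf.2 ht)))
    obtain ⟨k, hk⟩ := Q.isPGroup' ⟨_, hm⟩
    rw [e, hone o ho k (congrArg (fun z : ↥(Q : Subgroup ↥J) => ((z : ↥J) : G)) hk), one_mul]
    exact ht
  set T' := T.map (MulAut.conj h).toMonoidHom
  have hT'J : T' ≤ J := by
    rintro _ ⟨t, ht, rfl⟩
    show h * t * h⁻¹ ∈ J
    rw [show h * t * h⁻¹ = ⁅h, t⁆ * t by rw [commutatorElement_def]; group]
    exact mul_mem (mem_sup_right (hc t ht)) (mem_sup_left ht)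
  obtain ⟨Q', hQ'⟩ := (IsPGroup.comap_subtype (hT.map _) (K := J) : IsPGroup 2 ↥(T'.subgroupOf J)).exists_le_sylow
  obtain ⟨j, hj⟩ := MulAction.exists_smul_eq ↥J Q' Q
  obtain ⟨s, hs, o, ho, hje⟩ := hdec j j.2
  refine ⟨s⁻¹ * o * s, ?_, mem_centralizer_iff.2 fun t ht => ?_⟩
  · simpa using (mem_normalizer_iff.1 (inv_mem (hTn hs)) o).1 ho
  set o' := s⁻¹ * o * s with ho'def
  have ho' : o' ∈ O := by simpa using (mem_normalizer_iff.1 (inv_mem (hTn hs)) o).1 ho
  have hje' : (j : G) = s * o' := by rw [hje, ho'def]; group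
  have h1 : (j : G) * (h * t * h⁻¹) * (j : G)⁻¹ ∈ T := by
    refine hQT (j * ⟨h * t * h⁻¹, hT'J ⟨t, ht, rfl⟩⟩ * j⁻¹) ?_
    rw [← hj, Sylow.coe_subgroup_smul, ← Grp.map_conj_eq_smul]
    exact mem_map_of_mem _ (hQ' (mem_subgroupOf.2 ⟨t, ht, rfl⟩))
  have h2 : o' * (h * t * h⁻¹) * o'⁻¹ * t⁻¹ ∈ T := by
    have := mul_mem (mul_mem (mul_mem (inv_mem hs) h1) hs) (inv_mem ht)
    rw [hje'] at this
    rwa [show s⁻¹ * (s * o' * (h * t * h⁻¹) * (s * o')⁻¹) * s * t⁻¹ = o' * (h * t * h⁻¹) * o'⁻¹ * t⁻¹ by group]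
      at this
  have h3 : o' * (h * t * h⁻¹) * o'⁻¹ * t⁻¹ ∈ O := by
    rw [show o' * (h * t * h⁻¹) * o'⁻¹ * t⁻¹ = o' * ⁅h, t⁆ * (t * o'⁻¹ * t⁻¹) by
      rw [commutatorElement_def]; group]
    exact mul_mem (mul_mem ho' (hc t ht)) ((mem_normalizer_iff.1 (hTn ht) _).1 (inv_mem ho'))
  obtain ⟨k, hk⟩ := hT ⟨_, h2⟩
  have h4 := hone _ h3 k (congrArg Subtype.val hk)
  rw [mul_inv_eq_one] at h4
  calc t * (o' * h) = o' * (h * t * h⁻¹) * o'⁻¹ * (o' * h) := by rw [h4]
    _ = o' * h * t := by group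

/-- A strongly closed subgroup meeting a perfect normal subgroup centrally centralises it modulo `O(J)`. -/
theorem comm_mem_core {J : Type u} [Group J] [Finite J] (Q : Sylow 2 J) (V X : Subgroup J) [X.Normal]
    (hV : Cfsg.IsStronglyClosed V (Q : Subgroup J)) (hXp : ⁅X, X⁆ = X)
    (hcen : ∀ v ∈ V, v ∈ X → ∀ x ∈ X, v * x = x * v) :
    ∀ x ∈ X, ∀ v ∈ V, ⁅x, v⁆ ∈ Cfsg.pPrimeCore 2 J := by
  classical
  haveI : Fact (Nat.Prime 2) := ⟨Nat.prime_two⟩
  -- the case `O(J) = 1`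
  have core : ∀ {J : Type u} [Group J] [Finite J] (Q : Sylow 2 J) (V X : Subgroup J) [X.Normal],
      Cfsg.pPrimeCore 2 J = ⊥ → Cfsg.IsStronglyClosed V (Q : Subgroup J) → ⁅X, X⁆ = X →
      (∀ v ∈ V, v ∈ X → ∀ x ∈ X, v * x = x * v) → ⁅V, X⁆ = ⊥ := by
    intro J _ _ Q V X _ hO hV hXp hcen
    set Z := X ⊓ centralizer (X : Set J) with hZ
    haveI : (centralizer (X : Set J)).Normal := inferInstance
    haveI : Z.Normal := inferInstance
    have hZc : ∀ a ∈ Z, ∀ b ∈ Z, a * b = b * a := fun a ha b hb => (mem_centralizer_iff.1 ha.2 b hb.1).symm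
    have hZ2 : IsPGroup 2 Z :=
      Q.isPGroup'.to_le ((Fus.ClosedProduct.abelian_le_pCore hO hZc).trans (Grp.pCore_le_sylow Q))
    set π := QuotientGroup.mk' Z
    have hπs : Function.Surjective π := QuotientGroup.mk'_surjective Z
    set W := (Cfsg.pPrimeCore 2 (J ⧸ Z)).comap π with hW
    haveI : (Cfsg.pPrimeCore 2 (J ⧸ Z)).Normal := Grp.pPrimeCore_isNormal
    -- `W` meets `X` in `Z`
    have hWX : W ⊓ X ≤ Z := by
      refine Fus.ClosedProduct.le_two_of_odd_quotient hO hZ2 (le_inf (fun z hz => mem_comap.2 ?_) inf_le_left)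
        (fun z hz e he => (mem_centralizer_iff.1 hz.2 e he.2).symm) ?_
      · rw [show π z = 1 from (QuotientGroup.eq_one_iff z).2 hz]; exact one_mem _
      have h3 := π.ker.relIndex (W ⊓ X)
      have h4 := relIndex_ker (f := π) (K := W ⊓ X)
      rw [QuotientGroup.ker_mk'] at h4
      rw [h4]
      exact Invol.odd_oddCore.of_dvd_nat (card_dvd_of_le (by rintro _ ⟨e, he, rfl⟩; exact he.1))
    let J₁ := J ⧸ W
    set φ := QuotientGroup.mk' W
    have hφs : Function.Surjective φ := QuotientGroup.mk'_surjective W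
    have hO1 : Cfsg.pPrimeCore 2 (J ⧸ W) = ⊥ := by
      haveI : (Cfsg.pPrimeCore 2 (J ⧸ W)).Normal := Grp.pPrimeCore_isNormal
      set M := (Cfsg.pPrimeCore 2 (J ⧸ W)).comap φ with hM
      have hWM : W ≤ M := fun w hw => mem_comap.2 (by
        rw [show φ w = 1 from (QuotientGroup.eq_one_iff w).2 hw]; exact one_mem _)
      have hle : M.map π ≤ Cfsg.pPrimeCore 2 (J ⧸ Z) := by
        refine Grp.le_pPrimeCore (Normal.map inferInstance π hπs) (Nat.coprime_two_right.2 ?_)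
        have h1 : Cfsg.pPrimeCore 2 (J ⧸ Z) ≤ M.map π := fun z hz => by
          obtain ⟨y, rfl⟩ := hπs z
          exact mem_map_of_mem π (hWM (mem_comap.2 hz))
        rw [← card_mul_index ((Cfsg.pPrimeCore 2 (J ⧸ Z)).subgroupOf (M.map π)),
          Nat.card_congr (subgroupOfEquivOfLe h1).toEquiv]
        refine Invol.odd_oddCore.mul ?_
        show Odd ((Cfsg.pPrimeCore 2 (J ⧸ Z)).relIndex (M.map π))
        have h4 := relIndex_ker (f := φ) (K := M)
        rw [QuotientGroup.ker_mk'] at h4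
        rw [← relIndex_comap, show (Cfsg.pPrimeCore 2 (J ⧸ Z)).comap π = W from rfl, h4]
        exact Invol.odd_oddCore.of_dvd_nat (card_dvd_of_le (by rintro _ ⟨e, he, rfl⟩; exact he))
      refine (eq_bot_iff_forall _).2 fun z hz => ?_
      obtain ⟨y, rfl⟩ := hφs z
      exact (QuotientGroup.eq_one_iff y).2 (mem_comap.2 (hle (mem_map_of_mem π (mem_comap.2 hz))))
    let Q₁ : Sylow 2 (J ⧸ W) := Q.mapSurjective hφs
    have hV1 : Cfsg.IsStronglyClosed (V.map φ) (Q₁ : Subgroup (J ⧸ W)) := by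
      rw [Sylow.coe_mapSurjective]; exact S1250.result Q V hV W
    haveI : (X.map φ).Normal := Normal.map inferInstance φ hφs
    have hdisj : V.map φ ⊓ X.map φ = ⊥ := by
      rw [eq_bot_iff]
      rintro _ ⟨⟨v, hv, rfl⟩, ⟨x, hx, e⟩⟩
      have hw : x⁻¹ * v ∈ W := QuotientGroup.eq.1 e
      obtain ⟨k, hk⟩ := Q.isPGroup' ⟨v, hV.1 hv⟩
      -- in `J / Z` the element `v` is congruent to an odd element modulo the image of `X`
      haveI : (X.map π).Normal := Normal.map inferInstance π hπs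
      have hodd : Odd (orderOf (π (x⁻¹ * v))) :=
        Fus.ClosedPair.odd_orderOf_of_mem Invol.odd_oddCore hw
      obtain ⟨hv', -⟩ := mem_of_two_of_odd (M := X.map π) (v := π v) (o := π (x⁻¹ * v))
        (by rw [normalizer_eq_top]; exact mem_top _)
        (k := k) (by rw [← map_pow, show v ^ 2 ^ k = 1 from congrArg Subtype.val hk, map_one]) hodd (by
          rw [← map_inv, ← map_mul]
          refine mem_map_of_mem π ?_
          simpa [mul_assoc] using (inferInstance : X.Normal).conj_mem _ (X.inv_mem hx) v⁻¹)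
      obtain ⟨x', hx', e'⟩ := hv'
      have hvX : v ∈ X := by
        have := mul_mem hx' ((mem_inf.1 (QuotientGroup.eq.1 e' : x'⁻¹ * v ∈ Z)).1)
        simpa using this
      refine mem_bot.2 ((QuotientGroup.eq_one_iff v).2 (mem_comap.2 ?_))
      rw [show π v = 1 from (QuotientGroup.eq_one_iff v).2
        ⟨hvX, mem_centralizer_iff.2 fun y hy => (hcen v hv hvX y hy).symm⟩]
      exact one_mem _
    have hc := Invol.le_centralizer_of_stronglyClosed Q₁ (V.map φ) hV1 (X.map φ)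
      (by rw [normalizer_eq_top]; exact le_top) (Fus.ClosedProduct.core_normal hO1 _) hdisj
    have hVX : ⁅V, X⁆ ≤ Z := by
      refine (le_inf ?_ (commutator_le_right V X)).trans hWX
      rw [← (show φ.ker = W from QuotientGroup.ker_mk' W), ← Subgroup.map_eq_bot_iff, map_commutator,
        commutator_eq_bot_iff_le_centralizer]
      exact hc
    have h1 : ⁅⁅V, X⁆, X⁆ = ⊥ := by
      rw [commutator_eq_bot_iff_le_centralizer]
      exact hVX.trans inf_le_right
    rw [commutator_comm, ← hXp]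
    refine commutator_commutator_eq_bot_of_rotate ?_ h1
    rw [commutator_comm X V, h1]
  intro x hx v hv
  haveI : (Cfsg.pPrimeCore 2 J).Normal := Grp.pPrimeCore_isNormal
  set ψ := QuotientGroup.mk' (Cfsg.pPrimeCore 2 J)
  have hψs : Function.Surjective ψ := QuotientGroup.mk'_surjective _
  haveI : (X.map ψ).Normal := Normal.map inferInstance ψ hψs
  have h := core (Q.mapSurjective hψs) (V.map ψ) (X.map ψ) Grp.pPrimeCore_quotient_bot
    (by rw [Sylow.coe_mapSurjective]; exact S1250.result Q V hV _) (map_perfect ψ hXp) (by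
      rintro _ ⟨a, ha, rfl⟩ ⟨b, hb, e⟩ _ ⟨y, hy, rfl⟩
      obtain ⟨k, hk⟩ := Q.isPGroup' ⟨a, hV.1 ha⟩
      have haX : a ∈ X := by
        have hm : b⁻¹ * a ∈ Cfsg.pPrimeCore 2 J := QuotientGroup.eq.1 e
        refine (mem_of_two_of_odd (M := X) (v := a) (o := b⁻¹ * a)
          (by rw [normalizer_eq_top]; exact mem_top _) (k := k) (congrArg Subtype.val hk)
          (Fus.ClosedPair.odd_orderOf_of_mem Invol.odd_oddCore hm) ?_).1
        simpa [mul_assoc] using (inferInstance : X.Normal).conj_mem _ (X.inv_mem hb) a⁻¹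
      rw [← map_mul, ← map_mul, hcen a ha haX y hy])
  rw [← QuotientGroup.eq_one_iff]
  show ψ ⁅x, v⁆ = 1
  rw [commutator_eq_bot_iff_le_centralizer] at h
  rw [map_commutatorElement, commutatorElement_eq_one_iff_mul_comm]
  exact mem_centralizer_iff.1 (h (mem_map_of_mem ψ hv)) _ (mem_map_of_mem ψ hx)

end Cfsg.Agent.Transfer.ClosedCore
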