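import Cfsg.Agent.Lib.Transfer.ClosedCore.Basic

/-!
# The part of a local subgroup that centralises the conjugates of a strongly closed 2-subgroup
-/

set_option autoImplicit false
set_option linter.style.haveILetI false
set_option linter.unusedSectionVars false

namespace Cfsg.Agent.Transfer.ClosedCore

open Subgroup
open scoped commutatorElement

universe u

/-- The statement proved by induction. -/
def Claim (G : Type u) [Group G] [Finite G] : Prop :=
  ∀ (S : Sylow 2 G) (T X : Subgroup G), Cfsg.IsStronglyClosed T (S : Subgroup G) → X ≤ centralizer (T : Set G) →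
    ⁅X, X⁆ = X → ⁅X, normalClosure (T : Set G)⁆ ≤ Cfsg.pPrimeCore 2 G

variable {G : Type u} [Group G]

/-- An element conjugate into `T`. -/
def Tel (T : Subgroup G) (x : G) : Prop := ∃ g : G, g * x * g⁻¹ ∈ T

theorem tel_of_mem {T : Subgroup G} {x : G} (hx : x ∈ T) : Tel T x := ⟨1, by simpa using hx⟩

theorem tel_conj {T : Subgroup G} {x : G} (h : Tel T x) (c : G) : Tel T (c * x * c⁻¹) := by
  obtain ⟨g, hg⟩ := h
  exact ⟨g * c⁻¹, by rwa [show g * c⁻¹ * (c * x * c⁻¹) * (g * c⁻¹)⁻¹ = g * x * g⁻¹ by group]⟩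

theorem tel_mem {S : Sylow 2 G} {T : Subgroup G} (hT : Cfsg.IsStronglyClosed T (S : Subgroup G)) {x : G}
    (hx : x ∈ (S : Subgroup G)) (h : Tel T x) : x ∈ T := by
  obtain ⟨g, hg⟩ := h
  have := hT.2 _ hg g⁻¹ (by simpa [mul_assoc] using hx)
  simpa [mul_assoc] using this

variable [Finite G]

theorem tel_isPGroup {S : Sylow 2 G} {T : Subgroup G} (hT : Cfsg.IsStronglyClosed T (S : Subgroup G)) {x : G}
    (h : Tel T x) : IsPGroup 2 (zpowers x) := by
  obtain ⟨g, hg⟩ := h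
  obtain ⟨k, hk⟩ := IsPGroup.iff_orderOf.1 S.isPGroup' ⟨_, hT.1 hg⟩
  rw [Subgroup.orderOf_mk, Invol.orderOf_conj_eq] at hk
  exact IsPGroup.of_card (n := k) (by rw [Nat.card_zpowers, hk])

/-- The elements of a 2-group conjugate into `T` form a subgroup no larger than `T`. -/
theorem exists_part {S : Sylow 2 G} {T : Subgroup G} (hT : Cfsg.IsStronglyClosed T (S : Subgroup G))
    {Q : Subgroup G} (hQ : IsPGroup 2 Q) :
    ∃ U : Subgroup G, (∀ u, u ∈ U ↔ u ∈ Q ∧ Tel T u) ∧ Nat.card U ≤ Nat.card T := by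
  obtain ⟨g, hg⟩ := Fus.ClosedProduct.move S hQ
  refine ⟨Q ⊓ T.comap (MulAut.conj g).toMonoidHom, fun u => ⟨fun h => ⟨h.1, g, h.2⟩, fun h => ⟨h.1, ?_⟩⟩, ?_⟩
  · exact tel_mem hT (hg u h.1) (tel_conj h.2 g)
  · rw [← card_map_of_injective (f := (MulAut.conj g).toMonoidHom) (MulAut.conj g).injective]
    exact Nat.card_mono (Set.toFinite _) (map_le_iff_le_comap.2 inf_le_right)

/-- The elements of `H` centralising its elements conjugate into `T` modulo `O(H)`. -/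
def lc (T H : Subgroup G) : Subgroup G where
  carrier := {h | h ∈ H ∧ ∀ u ∈ H, Tel T u → ⁅h, u⁆ ∈ oH H}
  one_mem' := ⟨one_mem _, fun u _ _ => by rw [commutatorElement_one_left]; exact one_mem _⟩
  mul_mem' := fun {a b} ha hb => ⟨mul_mem ha.1 hb.1, fun u hu ht => by
    rw [show ⁅a * b, u⁆ = a * ⁅b, u⁆ * a⁻¹ * ⁅a, u⁆ by simp only [commutatorElement_def]; group]
    exact mul_mem (oH_conj_mem ha.1 (hb.2 u hu ht)) (ha.2 u hu ht)⟩
  inv_mem' := fun {a} ha => ⟨inv_mem ha.1, fun u hu ht => by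
    rw [show ⁅a⁻¹, u⁆ = a⁻¹ * ⁅a, u⁆⁻¹ * a⁻¹⁻¹ by simp only [commutatorElement_def]; group]
    exact oH_conj_mem (inv_mem ha.1) (inv_mem (ha.2 u hu ht))⟩

theorem lc_conj {T H H' : Subgroup G} {g : G} (hg : ∀ h, h ∈ H ↔ g * h * g⁻¹ ∈ H') :
    ∀ x ∈ lc T H, g * x * g⁻¹ ∈ lc T H' := by
  intro x hx
  refine ⟨(hg x).1 hx.1, fun u hu ht => ?_⟩
  have hu' : g⁻¹ * u * g ∈ H := (hg _).2 (by simpa [mul_assoc] using hu)
  have ht' : Tel T (g⁻¹ * u * g) := by simpa using tel_conj ht g⁻¹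
  have hle : (oH H).map (MulAut.conj g).toMonoidHom ≤ oH H' := by
    refine le_oH (by rintro _ ⟨y, hy, rfl⟩; exact (hg y).1 (oH_le H hy)) ?_
      (by rw [card_map_of_injective (MulAut.conj g).injective]; exact odd_oH H)
    rintro h hh _ ⟨y, hy, rfl⟩
    refine ⟨g⁻¹ * h * g * y * (g⁻¹ * h * g)⁻¹, oH_conj_mem ((hg _).2 (by simpa [mul_assoc] using hh)) hy, ?_⟩
    show g * (g⁻¹ * h * g * y * (g⁻¹ * h * g)⁻¹) * g⁻¹ = h * (g * y * g⁻¹) * h⁻¹
    group
  refine hle ⟨_, hx.2 _ hu' ht', ?_⟩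
  show g * ⁅x, g⁻¹ * u * g⁆ * g⁻¹ = ⁅g * x * g⁻¹, u⁆
  simp only [commutatorElement_def]
  group

theorem lc_normal {T H : Subgroup G} {g : G} (hg : g ∈ H) : ∀ x ∈ lc T H, g * x * g⁻¹ ∈ lc T H :=
  lc_conj fun h => by
    refine ⟨fun hh => mul_mem (mul_mem hg hh) (inv_mem hg), fun hh => ?_⟩
    simpa [mul_assoc] using mul_mem (mul_mem (inv_mem hg) hh) hg

theorem le_normalizer_pk_lc (T H : Subgroup G) : H ≤ normalizer (pk (lc T H) : Set G) := fun _ hh =>
  mem_normalizer_fintype fun _ hx => pk_conj_mem (lc_normal hh) hx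

/-- Induction in a proper subgroup. -/
theorem le_pk_lc {S : Sylow 2 G} {T : Subgroup G} (hT : Cfsg.IsStronglyClosed T (S : Subgroup G))
    {H : Subgroup G} (ih : Claim ↥H) (Q : Sylow 2 ↥H) {X : Subgroup G} (hXH : X ≤ H) (hXp : ⁅X, X⁆ = X)
    (hc : ∀ u : ↥H, u ∈ (Q : Subgroup ↥H) → Tel T (u : G) → ∀ x ∈ X, (u : G) * x = x * u) :
    X ≤ pk (lc T H) := by
  haveI : Fact (Nat.Prime 2) := ⟨Nat.prime_two⟩
  obtain ⟨U, hU, -⟩ := exists_part hT (Q.isPGroup'.map H.subtype)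
  have hmem : ∀ u : ↥H, u ∈ U.subgroupOf H ↔ u ∈ (Q : Subgroup ↥H) ∧ Tel T (u : G) := fun u => by
    rw [mem_subgroupOf, hU]
    exact and_congr_left' ⟨fun ⟨q, hq, e⟩ => Subtype.ext (e : (q : G) = u) ▸ hq, fun h => ⟨u, h, rfl⟩⟩
  have hcl : Cfsg.IsStronglyClosed (U.subgroupOf H) (Q : Subgroup ↥H) :=
    ⟨fun u hu => ((hmem u).1 hu).1, fun u hu k hk => (hmem _).2 ⟨hk, tel_conj ((hmem u).1 hu).2 (k : G)⟩⟩
  have hXp' : ⁅X.subgroupOf H, X.subgroupOf H⁆ = X.subgroupOf H := by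
    refine map_injective (f := H.subtype) H.subtype_injective ?_
    rw [map_commutator, subgroupOf_map_subtype, inf_eq_left.2 hXH, hXp]
  have key := ih Q (U.subgroupOf H) (X.subgroupOf H) hcl (fun x hx => mem_centralizer_iff.2 fun u hu =>
    Subtype.ext (hc u ((hmem u).1 hu).1 ((hmem u).1 hu).2 _ (mem_subgroupOf.1 hx))) hXp'
  refine le_pk (fun x hx => ⟨hXH hx, fun u hu ht => ?_⟩) hXp
  obtain ⟨Q', hQ'⟩ := (IsPGroup.comap_subtype (tel_isPGroup hT ht) (K := H) :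
    IsPGroup 2 ↥((zpowers u).subgroupOf H)).exists_le_sylow
  obtain ⟨k, hk⟩ := MulAction.exists_smul_eq ↥H Q' Q
  set u' : ↥H := ⟨u, hu⟩
  have hkU : k * u' * k⁻¹ ∈ U.subgroupOf H := by
    refine (hmem _).2 ⟨?_, tel_conj ht (k : G)⟩
    rw [← hk, Sylow.coe_subgroup_smul, ← Grp.map_conj_eq_smul]
    exact ⟨u', hQ' (mem_subgroupOf.2 (mem_zpowers u)), rfl⟩
  have hu'N : u' ∈ normalClosure (U.subgroupOf H : Set ↥H) := by
    have h1 := (normalClosure_normal (s := (U.subgroupOf H : Set ↥H))).conj_mem _ (subset_normalClosure hkU) k⁻¹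
    simpa [mul_assoc] using h1
  exact ⟨_, key (commutator_mem_commutator (mem_subgroupOf.2 hx : (⟨x, hXH hx⟩ : ↥H) ∈ X.subgroupOf H) hu'N), by
    simp [commutatorElement_def, u']⟩

/-- Climbing through normalisers: what centralises a self-centralising part centralises everything. -/
theorem climb {S : Sylow 2 G} {T : Subgroup G} (hT : Cfsg.IsStronglyClosed T (S : Subgroup G))
    {M : Subgroup G} (ih : ∀ H : Subgroup G, H ≤ M → Claim ↥H) :
    ∀ (n : ℕ) (U : Subgroup G), Nat.card M - Nat.card U ≤ n → U ≤ M → IsPGroup 2 U → (∀ u ∈ U, Tel T u) →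
      (∀ u ∈ M, Tel T u → u ∈ centralizer (U : Set G) → u ∈ U) →
      ∀ X : Subgroup G, X ≤ M ⊓ centralizer (U : Set G) → ⁅X, X⁆ = X → X ≤ pk (lc T M) := by
  haveI : Fact (Nat.Prime 2) := ⟨Nat.prime_two⟩
  intro n
  induction n using Nat.strong_induction_on with
  | _ n hn =>
  intro U hUn hUM hU2 hUtel hcen X hX hXp
  set N := M ⊓ normalizer (U : Set G) with hN
  have hUN : U ≤ N := le_inf hUM le_normalizer
  obtain ⟨Q, hQ⟩ := (IsPGroup.comap_subtype hU2 (K := N) : IsPGroup 2 ↥(U.subgroupOf N)).exists_le_sylow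
  obtain ⟨V, hV, -⟩ := exists_part hT (Q.isPGroup'.map N.subtype)
  have hUV : U ≤ V := fun u hu => (hV u).2 ⟨⟨⟨u, hUN hu⟩, hQ (mem_subgroupOf.2 hu), rfl⟩, hUtel u hu⟩
  have hVN : V ≤ N := fun v hv => map_subtype_le _ ((hV v).1 hv).1
  have hV2 : IsPGroup 2 V := (Q.isPGroup'.map N.subtype).to_le fun v hv => ((hV v).1 hv).1
  rcases eq_or_lt_of_le hUV with hEq | hlt
  · -- `U` is the whole part of a Sylow subgroup of `M`
    obtain ⟨QM, hQM⟩ := (IsPGroup.comap_subtype hU2 (K := M) : IsPGroup 2 ↥(U.subgroupOf M)).exists_le_sylow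
    obtain ⟨U', hU', -⟩ := exists_part hT (QM.isPGroup'.map M.subtype)
    have hUU' : U ≤ U' := fun u hu => (hU' u).2 ⟨⟨⟨u, hUM hu⟩, hQM (mem_subgroupOf.2 hu), rfl⟩, hUtel u hu⟩
    have hU'2 : IsPGroup 2 U' := (QM.isPGroup'.map M.subtype).to_le fun v hv => ((hU' v).1 hv).1
    have hU'U : U' ≤ U := by
      by_contra hnle
      haveI : Group.IsNilpotent ↥U' := hU'2.isNilpotent
      have h1 : U.subgroupOf U' < normalizer (U.subgroupOf U' : Set ↥U') :=
        Group.normalizerCondition_of_isNilpotent _ (lt_top_iff_ne_top.2 fun e => hnle (subgroupOf_eq_top.1 e))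
      obtain ⟨y, hy, hyU⟩ := SetLike.exists_of_lt h1
      set D := U' ⊓ normalizer (U : Set G) with hD
      have hyD : (y : G) ∈ D := by
        refine ⟨y.2, mem_normalizer_fintype fun u hu => ?_⟩
        exact mem_subgroupOf.1 ((mem_normalizer_iff.1 hy ⟨u, hUU' hu⟩).1 (mem_subgroupOf.2 hu))
      have hDN : D ≤ N := le_inf (inf_le_left.trans fun v hv => map_subtype_le _ ((hU' v).1 hv).1) inf_le_right
      obtain ⟨Q', hQ'⟩ := (IsPGroup.comap_subtype (hU'2.to_le inf_le_left) (K := N) :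
        IsPGroup 2 ↥(D.subgroupOf N)).exists_le_sylow
      obtain ⟨k, hk⟩ := MulAction.exists_smul_eq ↥N Q' Q
      have hle : D.map (MulAut.conj (k : G)).toMonoidHom ≤ U := by
        rintro _ ⟨v, hv, rfl⟩
        refine hEq.ge ((hV _).2 ⟨⟨k * ⟨v, hDN hv⟩ * k⁻¹, ?_, rfl⟩, tel_conj ((hU' v).1 hv.1).2 (k : G)⟩)
        rw [← hk, Sylow.coe_subgroup_smul, ← Grp.map_conj_eq_smul]
        exact ⟨_, hQ' (mem_subgroupOf.2 hv), rfl⟩
      have h2 := Nat.card_mono (Set.toFinite _) hle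
      change Nat.card ↥(D.map _) ≤ Nat.card ↥U at h2
      rw [card_map_of_injective (MulAut.conj (k : G)).injective] at h2
      exact hyU (mem_subgroupOf.2 (eq_of_le_of_card_ge (le_inf hUU' le_normalizer) h2 ▸ hyD))
    refine le_pk_lc hT (ih M le_rfl) QM (hX.trans inf_le_left) hXp fun u hu ht x hx => ?_
    exact mem_centralizer_iff.1 (hX hx).2 _ (hU'U ((hU' _).2 ⟨⟨u, hu, rfl⟩, ht⟩))
  -- the larger part
  have hcard : Nat.card U < Nat.card V := lt_of_le_of_ne (Nat.card_mono (Set.toFinite _) hUV)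
    fun e => hlt.ne (eq_of_le_of_card_ge hUV e.ge)
  have hVM : Nat.card V ≤ Nat.card M := Nat.card_mono (Set.toFinite _) (hVN.trans inf_le_left)
  have hrec := hn (Nat.card M - Nat.card V) (by omega) V le_rfl (hVN.trans inf_le_left) hV2
    (fun v hv => ((hV v).1 hv).2)
    fun u hu ht hc => hUV (hcen u hu ht (centralizer_le (SetLike.coe_subset_coe.2 hUV) hc))
  set X0 := pk (M ⊓ centralizer (U : Set G)) with hX0
  have hX0N : X0 ≤ N := (pk_le _).trans (inf_le_inf_left _ (centralizer_le_normalizer _))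
  haveI hXn : (X0.subgroupOf N).Normal := ⟨fun x hx k => mem_subgroupOf.2 (pk_conj_mem (H := M ⊓ centralizer (U : Set G))
    (fun c hc => mem_inf.2 ⟨M.mul_mem (M.mul_mem (mem_inf.1 k.2).1 hc.1) (M.inv_mem (mem_inf.1 k.2).1), mem_centralizer_iff.2 fun u hu => by
      have h1 := mem_centralizer_iff.1 hc.2 _ ((mem_normalizer_iff.1 (inv_mem (mem_inf.1 k.2).2) u).1 hu)
      rw [inv_inv] at h1
      calc u * ((k : G) * c * (k : G)⁻¹) = (k : G) * ((k : G)⁻¹ * u * k * c) * (k : G)⁻¹ := by group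
        _ = (k : G) * (c * ((k : G)⁻¹ * u * k)) * (k : G)⁻¹ := by rw [h1]
        _ = _ := by group⟩) (mem_subgroupOf.1 hx))⟩
  have hX0p : ⁅X0.subgroupOf N, X0.subgroupOf N⁆ = X0.subgroupOf N := by
    refine map_injective (f := N.subtype) N.subtype_injective ?_
    rw [map_commutator, subgroupOf_map_subtype, inf_eq_left.2 hX0N, pk_perfect]
  have hclV : Cfsg.IsStronglyClosed (V.subgroupOf N) (Q : Subgroup ↥N) := by
    refine ⟨fun v hv => ?_, fun v hv k hk => mem_subgroupOf.2 ((hV _).2 ⟨⟨_, hk, rfl⟩,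
      tel_conj ((hV _).1 (mem_subgroupOf.1 hv)).2 (k : G)⟩)⟩
    obtain ⟨q, hq, e⟩ := ((hV _).1 (mem_subgroupOf.1 hv)).1
    exact Subtype.ext (e : (q : G) = v) ▸ hq
  have hcore := comm_mem_core Q (V.subgroupOf N) (X0.subgroupOf N) hclV hX0p fun v hv hvX x hx => Subtype.ext
    (mem_centralizer_iff.1 (pk_le _ (mem_subgroupOf.1 hx)).2 _ (hcen _ (hVN (mem_subgroupOf.1 hv)).1
      ((hV _).1 (mem_subgroupOf.1 hv)).2 (pk_le _ (mem_subgroupOf.1 hvX)).2))
  set C := N ⊓ centralizer (V : Set G) with hC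
  have hX0C : X0 ≤ C ⊔ oH N := by
    intro x hx
    obtain ⟨o, ho, hoc⟩ := exists_mul_centralizer hV2 (odd_oH N) (hVN.trans (le_normalizer_oH N))
      (le_normalizer_oH N (hX0N hx)) fun v hv => ⟨_, hcore ⟨x, hX0N hx⟩ (mem_subgroupOf.2 hx) ⟨v, hVN hv⟩
        (mem_subgroupOf.2 hv), by simp [commutatorElement_def]⟩
    rw [show x = o⁻¹ * (o * x) by group]
    exact mul_mem (mem_sup_right (inv_mem ho)) (mem_sup_left ⟨mul_mem (oH_le N ho) (hX0N hx), hoc⟩)
  have h1 : X0 ≤ pk C ⊔ oH N := le_pk_sup (inf_le_left.trans (le_normalizer_oH N)) hX0C (pk_perfect _)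
  have h2 : pk C ≤ pk (lc T M) := hrec (pk C) ((pk_le C).trans (inf_le_inf_right _ inf_le_left)) (pk_perfect C)
  have h3 : X0 ≤ pk (lc T M) := le_of_perfect_sup (odd_oH N)
    (((oH_le N).trans inf_le_left).trans (le_normalizer_pk_lc T M)) (h1.trans (sup_le_sup_right h2 _)) (pk_perfect _)
  exact (le_pk hX hXp).trans h3

end Cfsg.Agent.Transfer.ClosedCore
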