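import Cfsg.Agent.Lib.Transfer.ClosedCore.Climb
import Cfsg.Agent.Lib.Invol.Sylow
import Cfsg.Agent.Lib.Invol.Closed

/-!
# `S ∩ P` is strongly closed, `P` the perfect core of the centraliser of a strongly closed subgroup
-/

set_option autoImplicit false
set_option linter.style.haveILetI false
set_option linter.unusedSectionVars false

namespace Cfsg.Agent.Transfer.ClosedCore

open Subgroup
open scoped commutatorElement

universe u

variable {G : Type u} [Group G] [Finite G]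

theorem sylow_normalizes_pk {S : Sylow 2 G} {T : Subgroup G} (hT : Cfsg.IsStronglyClosed T (S : Subgroup G)) :
    (S : Subgroup G) ≤ normalizer (pk (centralizer (T : Set G)) : Set G) := fun s hs =>
  mem_normalizer_fintype fun _ hx => pk_conj_mem (fun c hc => mem_centralizer_iff.2 fun t ht => by
    have hsN := Invol.sylow_le_normalizer_stronglyClosed hT hs
    have h1 := mem_centralizer_iff.1 hc _ ((mem_normalizer_iff.1 (inv_mem hsN) t).1 ht)
    rw [inv_inv] at h1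
    calc t * (s * c * s⁻¹) = s * (s⁻¹ * t * s * c) * s⁻¹ := by group
      _ = s * (c * (s⁻¹ * t * s)) * s⁻¹ := by rw [h1]
      _ = _ := by group) hx

/-- A 2-group lies in every Sylow subgroup of a subgroup in which it is central. -/
theorem mem_sylow_of_central {H : Subgroup G} (Q : Sylow 2 ↥H) {d : G} (hdH : d ∈ H) (hd : orderOf d = 2)
    (hc : ∀ h ∈ H, d * h = h * d) : (⟨d, hdH⟩ : ↥H) ∈ (Q : Subgroup ↥H) := by
  haveI : Fact (Nat.Prime 2) := ⟨Nat.prime_two⟩
  have hp : IsPGroup 2 (zpowers (⟨d, hdH⟩ : ↥H)) :=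
    IsPGroup.of_card (n := 1) (by rw [Nat.card_zpowers, Subgroup.orderOf_mk, hd, pow_one])
  have hn : zpowers (⟨d, hdH⟩ : ↥H) ≤ normalizer ((Q : Subgroup ↥H) : Set ↥H) := by
    refine zpowers_le.2 (centralizer_le_normalizer _ (mem_centralizer_iff.2 fun q hq => Subtype.ext ?_))
    exact (hc _ q.2).symm
  exact (Q.3 (hp.to_sup_of_normal_right' Q.isPGroup' hn) le_sup_right) ▸ mem_sup_left (mem_zpowers _)

/-- `S ⊓ pk C(T)` is strongly closed when induction applies to the centralisers of the involutions of `T`. -/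
theorem closed_inf_pk {S : Sylow 2 G} {T : Subgroup G} (hT : Cfsg.IsStronglyClosed T (S : Subgroup G))
    (ih : ∀ H : Subgroup G, (∃ d ∈ T, orderOf d = 2 ∧ H ≤ centralizer ({d} : Set G)) → Claim ↥H)
    {z : G} (hzT : z ∈ T) (hz : orderOf z = 2) (hzS : ∀ s ∈ (S : Subgroup G), s * z = z * s) :
    Cfsg.IsStronglyClosed ((S : Subgroup G) ⊓ pk (centralizer (T : Set G))) (S : Subgroup G) := by
  classical
  haveI : Fact (Nat.Prime 2) := ⟨Nat.prime_two⟩
  set P := pk (centralizer (T : Set G)) with hP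
  have hPp : ⁅P, P⁆ = P := pk_perfect _
  have hPT : ∀ p ∈ P, ∀ t ∈ T, t * p = p * t := fun p hp t ht => mem_centralizer_iff.1 (pk_le _ hp) t ht
  set Cz := centralizer ({z} : Set G) with hCz
  have hSz : (S : Subgroup G) ≤ Cz := fun s hs => mem_centralizer_singleton_iff.2 (hzS s hs)
  have hCTz : centralizer (T : Set G) ≤ Cz := fun c hc =>
    mem_centralizer_singleton_iff.2 (mem_centralizer_iff.1 hc z hzT).symm
  have hPz : P ≤ Cz := (pk_le _).trans hCTz
  let SC : Sylow 2 ↥Cz := S.subtype hSz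
  have hSC : ∀ u : ↥Cz, u ∈ (SC : Subgroup ↥Cz) ↔ (u : G) ∈ (S : Subgroup G) := fun _ => Iff.rfl
  -- `P` and the canonical subgroup of `C(z)`
  have hzP : P ≤ pk (lc T Cz) := le_pk_lc hT (ih Cz ⟨z, hzT, hz, le_rfl⟩) SC hPz hPp
    fun u hu ht x hx => hPT x hx _ (tel_mem hT ((hSC u).1 hu) ht)
  have hzle : pk (lc T Cz) ≤ P ⊔ oH Cz := by
    refine le_pk_sup (hCTz.trans (le_normalizer_oH Cz)) (fun x hx => ?_) (pk_perfect _)
    have hxl := pk_le _ hx
    have hTz : T ≤ Cz := hT.1.trans hSz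
    obtain ⟨o, ho, hoc⟩ := exists_mul_centralizer (S.isPGroup'.to_le hT.1) (odd_oH Cz)
      (hTz.trans (le_normalizer_oH Cz)) (le_normalizer_oH Cz hxl.1) fun t ht => hxl.2 t (hTz ht) (tel_of_mem ht)
    rw [show x = o⁻¹ * (o * x) by group]
    exact mul_mem (mem_sup_right (inv_mem ho)) (mem_sup_left hoc)
  -- `P` lies in the canonical subgroup of the centraliser of every involution of `T`
  have hdP : ∀ d ∈ T, orderOf d = 2 → P ≤ pk (lc T (centralizer ({d} : Set G))) := by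
    intro d hdT hd
    set Cd := centralizer ({d} : Set G) with hCd
    set H := Cd ⊓ Cz with hH
    obtain ⟨Q⟩ : Nonempty (Sylow 2 ↥H) := inferInstance
    have hdH : d ∈ H := ⟨mem_centralizer_singleton_iff.2 rfl, hSz (hT.1 hdT)⟩
    have hzH : z ∈ H := ⟨mem_centralizer_singleton_iff.2 (hzS d (hT.1 hdT)).symm, mem_centralizer_singleton_iff.2 rfl⟩
    obtain ⟨h, hh⟩ := Invol.exists_conj_subset_sylow (Q.isPGroup'.map (inclusion (inf_le_right : H ≤ Cz))) SC
    have hQS : ∀ q : ↥H, q ∈ (Q : Subgroup ↥H) → (h : G) * q * (h : G)⁻¹ ∈ (S : Subgroup G) := fun q hq =>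
      (hSC _).1 (hh _ (mem_map_of_mem (inclusion (inf_le_right : H ≤ Cz)) hq))
    obtain ⟨U, hU, -⟩ := exists_part hT (Q.isPGroup'.map H.subtype)
    have hUH : U ≤ H := fun u hu => map_subtype_le _ ((hU u).1 hu).1
    have hdQ := mem_sylow_of_central Q hdH hd fun g hg => (mem_centralizer_singleton_iff.1 hg.1).symm
    have hzQ := mem_sylow_of_central Q hzH hz fun g hg => (mem_centralizer_singleton_iff.1 hg.2).symm
    have hdU : d ∈ U := (hU d).2 ⟨⟨_, hdQ, rfl⟩, tel_of_mem hdT⟩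
    have hzU : z ∈ U := (hU z).2 ⟨⟨_, hzQ, rfl⟩, tel_of_mem hzT⟩
    have hUT : ∀ u ∈ U, (h : G) * u * (h : G)⁻¹ ∈ T := fun u hu => by
      obtain ⟨⟨q, hq, rfl⟩, ht⟩ := (hU u).1 hu
      exact tel_mem hT (hQS q hq) (tel_conj ht (h : G))
    set X := P.map (MulAut.conj (h : G)⁻¹).toMonoidHom with hX
    have hXp : ⁅X, X⁆ = X := map_perfect _ hPp
    have hXc : X ≤ centralizer (U : Set G) := by
      rintro _ ⟨p, hp, rfl⟩
      refine mem_centralizer_iff.2 fun u hu => ?_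
      show u * ((h : G)⁻¹ * p * (h : G)⁻¹⁻¹) = (h : G)⁻¹ * p * (h : G)⁻¹⁻¹ * u
      calc u * ((h : G)⁻¹ * p * (h : G)⁻¹⁻¹) = (h : G)⁻¹ * ((h : G) * u * (h : G)⁻¹ * p) * (h : G) := by group
        _ = (h : G)⁻¹ * (p * ((h : G) * u * (h : G)⁻¹)) * (h : G) := by rw [hPT p hp _ (hUT u hu)]
        _ = _ := by group
    have hXd : X ≤ Cd := fun x hx => mem_centralizer_singleton_iff.2 (mem_centralizer_iff.1 (hXc hx) d hdU).symm
    have hXz : X ≤ Cz := fun x hx => mem_centralizer_singleton_iff.2 (mem_centralizer_iff.1 (hXc hx) z hzU).symm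
    have hU2 : IsPGroup 2 U := (Q.isPGroup'.map H.subtype).to_le fun u hu => ((hU u).1 hu).1
    have hXle : X ≤ pk (lc T Cd) := by
      refine climb hT (fun K hK => ih K ⟨d, hdT, hd, hK⟩) _ U le_rfl (hUH.trans inf_le_left) hU2
        (fun u hu => ((hU u).1 hu).2) (fun u hu ht hc => ?_) X (le_inf hXd hXc) hXp
      have huH : u ∈ H := ⟨hu, mem_centralizer_singleton_iff.2 (mem_centralizer_iff.1 hc z hzU).symm⟩
      have hp2 : IsPGroup 2 ↥(zpowers u ⊔ U) := (tel_isPGroup hT ht).to_sup_of_normal_right' hU2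
        (zpowers_le.2 (centralizer_le_normalizer _ hc))
      obtain ⟨Q', hQ'⟩ := (IsPGroup.comap_subtype hp2 (K := H) :
        IsPGroup 2 ↥((zpowers u ⊔ U).subgroupOf H)).exists_le_sylow
      obtain ⟨k, hk⟩ := MulAction.exists_smul_eq ↥H Q' Q
      have hmem : ∀ v ∈ zpowers u ⊔ U, Tel T v → (k : G) * v * (k : G)⁻¹ ∈ U := by
        intro v hv hvt
        have hvH : v ∈ H := (sup_le (zpowers_le.2 huH) hUH) hv
        refine (hU _).2 ⟨⟨k * ⟨v, hvH⟩ * k⁻¹, ?_, rfl⟩, tel_conj hvt (k : G)⟩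
        rw [← hk, Sylow.coe_subgroup_smul, ← Grp.map_conj_eq_smul]
        exact ⟨_, hQ' (mem_subgroupOf.2 hv), rfl⟩
      have hle : U.map (MulAut.conj (k : G)).toMonoidHom ≤ U := by
        rintro _ ⟨v, hv, rfl⟩
        exact hmem v (mem_sup_right hv) ((hU v).1 hv).2
      have e := eq_of_le_of_card_ge hle (card_map_of_injective (MulAut.conj (k : G)).injective).ge
      obtain ⟨v, hv, hvu⟩ := e.ge (hmem u (mem_sup_left (mem_zpowers u)) ht)
      exact (MulAut.conj (k : G)).injective hvu ▸ hv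
    have hle2 : P ≤ pk (lc T Cd) ⊔ oH H := by
      intro p hp
      have h1 : (h : G) * p * (h : G)⁻¹ ∈ P ⊔ oH Cz := hzle (pk_conj_mem (lc_normal h.2) (hzP hp))
      rw [← SetLike.mem_coe, coe_mul_of_left_le_normalizer_right _ _ (hPz.trans (le_normalizer_oH Cz))] at h1
      obtain ⟨p', hp', o, ho, e⟩ := h1
      set x := (h : G)⁻¹ * p' * (h : G) with hx
      have hxX : x ∈ X := ⟨p', hp', by simp [hx]⟩
      set o' := (h : G)⁻¹ * o * (h : G) with ho'
      have ho'z : o' ∈ oH Cz := by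
        have := oH_conj_mem (inv_mem h.2) ho
        rwa [inv_inv] at this
      have he : p = x * o' := by
        simp only at e
        rw [hx, ho', show (h : G)⁻¹ * p' * h * ((h : G)⁻¹ * o * h) = (h : G)⁻¹ * (p' * o) * h by group, e]
        group
      have hpH : p ∈ H := ⟨mem_centralizer_singleton_iff.2 (hPT p hp d hdT).symm, hPz hp⟩
      have ho'H : o' ∈ H := by
        rw [show o' = x⁻¹ * p by rw [he]; group]
        exact mul_mem (inv_mem ⟨hXd hxX, hXz hxX⟩) hpH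
      rw [he]
      refine mul_mem_sup (hXle hxX) (le_oH inf_le_right (fun g hg y hy => ?_) ?_ (⟨ho'z, ho'H⟩ : o' ∈ oH Cz ⊓ H))
      · exact mem_inf.2 ⟨oH_conj_mem hg.2 hy.1, H.mul_mem (H.mul_mem hg hy.2) (H.inv_mem hg)⟩
      · exact (odd_oH Cz).of_dvd_nat (card_dvd_of_le inf_le_left)
    exact le_of_perfect_sup (odd_oH H) (((oH_le H).trans inf_le_left).trans (le_normalizer_pk_lc T Cd)) hle2 hPp
  -- closure
  refine ⟨inf_le_left, fun x hx g hg => ⟨hg, ?_⟩⟩
  set C := centralizer ({x} : Set G) with hC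
  have hTC : T ≤ C := fun t ht => mem_centralizer_singleton_iff.2 (hPT x hx.2 t ht)
  obtain ⟨Q, hQ⟩ := (IsPGroup.comap_subtype (S.isPGroup'.to_le hT.1) (K := C) :
    IsPGroup 2 ↥(T.subgroupOf C)).exists_le_sylow
  obtain ⟨U, hU, hUcard⟩ := exists_part hT (Q.isPGroup'.map C.subtype)
  have hTU : T = U := eq_of_le_of_card_ge
    (fun t ht => (hU t).2 ⟨⟨⟨t, hTC ht⟩, hQ (mem_subgroupOf.2 ht), rfl⟩, tel_of_mem ht⟩) hUcard
  have hwC : g⁻¹ * z * g ∈ C := mem_centralizer_singleton_iff.2 (by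
    calc g⁻¹ * z * g * x = g⁻¹ * (z * (g * x * g⁻¹)) * g := by group
      _ = g⁻¹ * (g * x * g⁻¹ * z) * g := by rw [hzS _ hg]
      _ = _ := by group)
  have hwt : Tel T (g⁻¹ * z * g) := by simpa using tel_conj (tel_of_mem hzT) g⁻¹
  obtain ⟨Q', hQ'⟩ := (IsPGroup.comap_subtype (tel_isPGroup hT hwt) (K := C) :
    IsPGroup 2 ↥((zpowers (g⁻¹ * z * g)).subgroupOf C)).exists_le_sylow
  obtain ⟨c, hc⟩ := MulAction.exists_smul_eq ↥C Q' Q
  set z' := (c : G) * (g⁻¹ * z * g) * (c : G)⁻¹ with hz'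
  have hz'T : z' ∈ T := by
    rw [hTU, hU]
    refine ⟨⟨c * ⟨_, hwC⟩ * c⁻¹, ?_, rfl⟩, tel_conj hwt (c : G)⟩
    rw [← hc, Sylow.coe_subgroup_smul, ← Grp.map_conj_eq_smul]
    exact ⟨_, hQ' (mem_subgroupOf.2 (mem_zpowers _)), rfl⟩
  have hz'2 : orderOf z' = 2 := by
    rw [hz', Invol.orderOf_conj_eq, show g⁻¹ * z * g = g⁻¹ * z * g⁻¹⁻¹ by group, Invol.orderOf_conj_eq, hz]
  set g' := g * (c : G)⁻¹ with hg'
  have hxy : g * x * g⁻¹ = g' * x * g'⁻¹ := by
    rw [hg', show g * (c : G)⁻¹ * x * (g * (c : G)⁻¹)⁻¹ = g * ((c : G)⁻¹ * (x * c)) * g⁻¹ by group,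
      ← mem_centralizer_singleton_iff.1 c.2]
    group
  have hzz : ∀ k, k ∈ centralizer ({z'} : Set G) ↔ g' * k * g'⁻¹ ∈ Cz := fun k => by
    rw [mem_centralizer_singleton_iff, hCz, mem_centralizer_singleton_iff]
    have e : g' * z' * g'⁻¹ = z := by rw [hg', hz']; group
    rw [← e]
    constructor
    · intro h1
      calc g' * k * g'⁻¹ * (g' * z' * g'⁻¹) = g' * (k * z') * g'⁻¹ := by group
        _ = g' * (z' * k) * g'⁻¹ := by rw [h1]
        _ = _ := by group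
    · intro h1
      calc k * z' = g'⁻¹ * (g' * k * g'⁻¹ * (g' * z' * g'⁻¹)) * g' := by group
        _ = g'⁻¹ * (g' * z' * g'⁻¹ * (g' * k * g'⁻¹)) * g' := by rw [h1]
        _ = _ := by group
  have hy : g * x * g⁻¹ ∈ P ⊔ oH Cz := by
    rw [hxy]
    exact hzle (pk_conj_mem' (lc_conj hzz) (hdP z' hz'T hz'2 hx.2))
  rw [← SetLike.mem_coe, coe_mul_of_left_le_normalizer_right _ _ (hPz.trans (le_normalizer_oH Cz))] at hy
  obtain ⟨p, hp, o, ho, e⟩ := hy
  simp only at e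
  set o' := p * o * p⁻¹ with ho'
  have hoo : o' ∈ oH Cz := oH_conj_mem (hPz hp) ho
  obtain ⟨k, hk⟩ := S.isPGroup' ⟨_, hg⟩
  refine (mem_of_two_of_odd (M := P) (sylow_normalizes_pk hT hg) (k := k) (congrArg Subtype.val hk)
    ((odd_oH Cz).of_dvd_nat (Subgroup.orderOf_dvd_natCard _ hoo)) ?_).1
  rw [show (g * x * g⁻¹)⁻¹ * o' = p⁻¹ by rw [← e, ho']; group]
  exact inv_mem hp

end Cfsg.Agent.Transfer.ClosedCore
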